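import Cfsg.Agent.Mrg.Omega.OM.Swap.Pair_m3
import Cfsg.Agent.Mrg.Omega.NOThreeL.RRed.Ex.Pf_m3
import Cfsg.Agent.Mrg.Omega.Node.NO3SWF
import Cfsg.Agent.Mrg.Omega.OM.SWQ.CostTwo_m3
import Cfsg.Agent.Mrg.Omega.NO3S.EMany.Four_m3
import Cfsg.Agent.Mrg.Omega.OM.PG.NoRad_m3
import Cfsg.Agent.Mrg.Omega.NO3S.EThree.ExactB_m3
import Cfsg.Agent.FastGrp
import Cfsg.Agent.Prune
set_option linter.all false
prune_inst 0x7ffcfffbaffdbfffffff7fffffffdffffdf8fffffffffffbfff6ebffffff6b8effcfffa7fffad0ff5ff7e3b4b4f87bd3f9ffeb3fef6bdc7ffffd5ff45ffbff8ffdf7bf8951f69c341fbe0fffe3f87fce7f3fffffffffffffffffffffffffffbeffffffffffff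
open scoped Cfsg.Agent.FastGrp

-- merged: Cfsg.Agent.Mrg.Omega.TC.UniOne
section

/-!
# CARD #18791 "(E) = TWO CENTRES": the field `uni` of `TC.Fr`

* `blkGenS` : a minimal parabolic `H` over `T ≥ B(S)` which moves `Ω₁(Z(T))`, `J(T) ≰ O₂(H)`, is `⟨L, T⟩` for an FF-block
  `L ≤ H` over `B(S)`;
* `uni_of` : over `Bg S P B ZJ L W Z C 2`, `k = 2`: if every minimal parabolic over `T = N_S(Z i)` which moves `Ω₁(Z(T))` and
  `K ≰ O₂(R)` is `⟨L', T⟩` with `L' ≤ R ∩ N(W l)`, `L' ≰ N(Z l)`, then `uni` holds;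
* `exists_fr_of` : `TC.Fr` from `Bg`, this hypothesis and `NonLoc (N(Z 0)) (N(Z 1))` (every level);
* `exists_fr_neg` : stage `-1`: `TC.Fr` from `HypJ S P`, `NatK` with `k = 2`, `|F| = 2` and the nonlocal case;
* `nonloc_bs` : the nonlocal case from `K0`.
-/

set_option autoImplicit false
set_option linter.unusedSectionVars false

namespace Cfsg.Agent.Omega.TC.UniOne

open Subgroup Cfsg Cfsg.Agent.ZN.ChoiceBase
open Cfsg.Agent.ZN (jj zj bau zc zl o2)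
open Cfsg.Agent.ZN.ChoiceSit (Syl exists_syl syl_conj o2_le_syl)
open Cfsg.Agent.Omega.OM Cfsg.Agent.Omega.OM.Uni
open Cfsg.Agent.Omega.NO3S (HypJ HypN Hyp)
open Cfsg.Agent.Omega.NO3S.EThree.Frame
open Cfsg.Agent.Omega.MinPar (NonLoc)
open Cfsg.Agent.MinSimple.MinParabolic (IsMinPar)
open Cfsg.Agent.MinSimple.VModule (le_normalizer_o2 o2_isPGroup le_o2 o2_le)
open Cfsg.Agent.Omega.LemmaK (Block WeakNormal)
open Cfsg.Agent.Omega.LemmaK.Main (le_normalizer_bau)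
open Cfsg.Agent.Omega.OM.BlkGen (FBlk exists_off)
open Cfsg.Agent.Omega.FFThm (NatK SymK)
open Cfsg.Agent.Omega.FrameFF (cv)
open scoped Pointwise

universe u

variable {G : Type u} [Group G]

/-- `BlkGen.blkGen` with the block in `H`. -/
theorem blkGenS [Finite G] {T H : Subgroup G} (hFF : FFThm.Stmt.{u}) (S : Sylow 2 G) (hT : Syl T H)
    (hB : bau (S : Subgroup G) ≤ T) (hP : IsMinPar T H) (hc : H ⊓ centralizer (o2 H : Set G) ≤ o2 H)
    (hJ : ¬ jj T ≤ o2 H) (hZ : ¬ H ≤ centralizer (zc T : Set G)) :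
    ∃ L V : Subgroup G, FBlk (S : Subgroup G) L V ∧ L ≤ H ∧ H ≤ L ⊔ T := by
  have hbau : bau T = bau (S : Subgroup G) := LemmaK.Main.bau_eq S hT.2.1 hB
  have hw : WeakNormal 2 (bau T) := by
    rw [hbau]
    exact fun R hR hBR => le_normalizer_bau S hR hBR
  obtain ⟨A, hA, hoff⟩ := exists_off hT hP hc hJ hZ
  obtain ⟨hno, hcon⟩ := hFF G T H hT hP hc ⟨A, hA.2.1.trans hT.1, hoff⟩
  have hm := SQ1.FFOne.minH_of hT hP hc
  rcases hcon with ⟨F, _, _, _, k, hk, ⟨M⟩⟩ | ⟨k, m, hk, hm2, ⟨M⟩⟩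
  · have : Nonempty (Fin k) := ⟨⟨0, hk⟩⟩
    set N := (SQ1.FFOne.natKB_of hT hc hJ hk M).toFFK hm with hN
    obtain ⟨E, hE⟩ := N.toInK hm
    obtain ⟨L, hL⟩ := hE.exists_blk ⟨0, hk⟩
    have hpb := FBK.pb hm N hE hw hL
    have hF : FBlk (S : Subgroup G) L ⁅N.N ⟨0, hk⟩, L⁆ := by
      exact ⟨⟨_, _, by rw [← hbau]; exact hpb.fb⟩, by rw [← hbau]; exact hpb.block hw⟩
    exact ⟨L, _, hF, hL.LH hE, hL.sup_T hE le_sup_right le_sup_left⟩
  · have h := syT_of hm hJ M hk (by omega) SQ1.FFOf.cv_le SQ1.FFOf.cv_norm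
    obtain ⟨ι, J, X, Y, t, r, c⟩ := h.exists_ch
    have hin := c.main h Cfsg.Agent.Omega.SQ1.SymCyc.exists_pow
    obtain ⟨j, x, y, hTr⟩ := h.exists_tr
    obtain ⟨i, -⟩ := c.ex j x y hTr
    obtain ⟨L, hL⟩ := hin.exists_blk i
    have hpb := FBS.pb hin hw hL
    have hF : FBlk (S : Subgroup G) L ⁅h.NN (J i) 0 (X i) (Y i), L⁆ := by
      exact ⟨⟨_, _, by rw [← hbau]; exact hpb.fb⟩, by rw [← hbau]; exact hpb.block hw⟩
    exact ⟨L, _, hF, hL.LH hin, hL.sup_T hin le_sup_right le_sup_left⟩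

section

variable [Finite G] {S : Sylow 2 G} {P B ZJ K : Subgroup G} {L W Z C : Fin 2 → Subgroup G}

/-- **The field `uni`.** -/
theorem uni_of (h : Bg S P B ZJ L W Z C 2) (hK : LevD.LB S K B ZJ)
    (hblk : ∀ R : Subgroup G, IsMinPar ((S : Subgroup G) ⊓ normalizer (Z 0 : Set G)) R →
      Syl ((S : Subgroup G) ⊓ normalizer (Z 0 : Set G)) R → R ⊓ centralizer (o2 R : Set G) ≤ o2 R →
      ¬ K ≤ o2 R → ¬ R ≤ centralizer (zc ((S : Subgroup G) ⊓ normalizer (Z 0 : Set G)) : Set G) →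
      ∃ (L' : Subgroup G) (l : Fin 2), L' ≤ R ∧ R ≤ L' ⊔ ((S : Subgroup G) ⊓ normalizer (Z 0 : Set G)) ∧
        L' ≤ normalizer (W l : Set G) ∧ ¬ L' ≤ normalizer (Z l : Set G)) :
    ∀ i j, i ≠ j → ∀ R : Subgroup G, IsMinPar ((S : Subgroup G) ⊓ normalizer (Z 0 : Set G)) R →
      R ≤ normalizer (Z j : Set G) → ¬ R ≤ normalizer (Z i : Set G) → R ≤ normalizer (W i : Set G) := by
  obtain ⟨v, hv1, hv, D⟩ := OfBg.exists_sit h
  have hN : ∀ i, normalizer (Z i : Set G) = centralizer ({v i} : Set G) := fun i =>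
    OfBg.normalizer_eq (hv i) (hv1 i)
  set T : Subgroup G := (S : Subgroup G) ⊓ normalizer (Z 0 : Set G) with hT
  intro i j hij R hR hRj hRi
  have hsyl : Syl T R := by
    have h1 := D.syl j
    rw [← hN j] at h1
    exact ⟨hR.le, h1.2.1, fun Q hQ h2 hle => h1.2.2 Q (hQ.trans hRj) h2 hle⟩
  have hcR : R ⊓ centralizer (o2 R : Set G) ≤ o2 R := by
    have h1 := D.char2 j
    rw [← hN j] at h1
    have h2 : o2 (normalizer (Z j : Set G)) ≤ T := by
      have h3 := D.syl j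
      rw [← hN j] at h3
      exact o2_le_syl h3
    have h4 : o2 (normalizer (Z j : Set G)) ≤ o2 R :=
      le_o2 (h2.trans hR.le) (o2_isPGroup _) (hRj.trans (le_normalizer_o2 _))
    rintro x ⟨hx, hxc⟩
    exact h4 (h1 ⟨hRj hx, centralizer_le (by exact_mod_cast h4) hxc⟩)
  have hvT : ∀ l, v l ∈ zc T := fun l => (D.zT _).2 (by
    have h2 : ∀ a : Fin 2, a = 0 ∨ a = 1 := by decide
    rcases h2 l with rfl | rfl <;> simp)
  have hZJ : ∀ x, x ∈ ZJ ↔ x ∈ zc T := fun x => by rw [D.zT, OfBg.mem_ZJ_iff h hv]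
  by_cases hKR : K ≤ o2 R
  · -- `R` normalises `ZJ`
    exfalso
    apply hRi
    have h1 : R ≤ normalizer (ZJ : Set G) :=
      (le_normalizer_o2 R).trans (hK.nrm _ (o2_isPGroup R) hKR)
    rw [hN i]
    intro r hr
    have h2 : r * v i * r⁻¹ ∈ ZJ := (mem_normalizer_iff.1 (h1 hr) _).1 ((hZJ _).2 (hvT i))
    obtain ⟨l, hl⟩ := h.fus (i := i) (g := r) h2 (by
      have e : r⁻¹ * (r * v i * r⁻¹) * r = v i := by group
      rw [e, hv i]; exact Or.inr rfl)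
    rcases (hv l _).1 hl with h3 | h3
    · exact absurd (conj_eq_one_iff.1 h3) (hv1 i)
    · by_cases hli : l = i
      · rw [hli] at h3
        rw [mem_centralizer_singleton_iff]
        exact mul_inv_eq_iff_eq_mul.1 h3
      · exfalso
        have hlj : l = j := by
          have h2 : ∀ a b c : Fin 2, a ≠ b → c ≠ a → c = b := by decide
          exact h2 i j l hij hli
        rw [hlj] at h3
        have h4 := hRj hr
        rw [hN j] at h4
        have h5 := mem_centralizer_singleton_iff.1 h4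
        have h6 : v i = v j := by
          have h7 : r * v i = r * v j := by
            rw [h5]
            exact mul_inv_eq_iff_eq_mul.1 h3
          exact mul_left_cancel h7
        have h8 : v i ∈ W i ⊓ W j := ⟨D.mem i, h6 ▸ D.mem j⟩
        rw [D.inf i j hij, mem_bot] at h8
        exact hv1 i h8
  · have hRc : ¬ R ≤ centralizer (zc T : Set G) := fun hc => hRi (by
      rw [hN i]
      exact hc.trans (centralizer_le (Set.singleton_subset_iff.2 (hvT i))))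
    obtain ⟨L', l, h1, h2, h3, h4⟩ := hblk R hR hsyl hcR hKR hRc
    have hli : l = i := by
      by_contra hli
      have hlj : l = j := by
        have h2 : ∀ a b c : Fin 2, a ≠ b → c ≠ a → c = b := by decide
        exact h2 i j l hij hli
      rw [hlj] at h4
      exact h4 (h1.trans hRj)
    rw [hli] at h3
    refine h2.trans (sup_le h3 ?_)
    rw [D.T_eq i]
    exact inf_le_right

/-- **`TC.Fr` from `Bg` and the generation by blocks.** -/
theorem exists_fr_of (h : Bg S P B ZJ L W Z C 2) (hK : LevD.LB S K B ZJ)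
    (hblk : ∀ R : Subgroup G, IsMinPar ((S : Subgroup G) ⊓ normalizer (Z 0 : Set G)) R →
      Syl ((S : Subgroup G) ⊓ normalizer (Z 0 : Set G)) R → R ⊓ centralizer (o2 R : Set G) ≤ o2 R →
      ¬ K ≤ o2 R → ¬ R ≤ centralizer (zc ((S : Subgroup G) ⊓ normalizer (Z 0 : Set G)) : Set G) →
      ∃ (L' : Subgroup G) (l : Fin 2), L' ≤ R ∧ R ≤ L' ⊔ ((S : Subgroup G) ⊓ normalizer (Z 0 : Set G)) ∧
        L' ≤ normalizer (W l : Set G) ∧ ¬ L' ≤ normalizer (Z l : Set G))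
    (nonloc : NonLoc (normalizer (Z 0 : Set G)) (normalizer (Z 1 : Set G))) :
    ∃ (v : Fin 2 → G) (R : Fin 2 → Subgroup G), (∀ i, ∀ x, x ∈ Z i ↔ x = 1 ∨ x = v i) ∧
      KTwo.Sit S P ((S : Subgroup G) ⊓ normalizer (Z 0 : Set G)) W v ∧
      Fr ((S : Subgroup G) ⊓ normalizer (Z 0 : Set G)) W R v :=
  OfBg.exists_fr h (uni_of h hK hblk) nonloc

end

/-! ### Stage `-1` -/

/-- The generation by blocks at stage `-1`. -/
theorem blk_neg [Finite G] {S : Sylow 2 G} {P T : Subgroup G} {ι : Type} [Finite ι] {L W Z C A : ι → Subgroup G}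
    (h : Line S P L W Z C A 2) (htr : ∀ i j : ι, ∃ s ∈ (S : Subgroup G), cj s (Z i) = Z j)
    (hFF : FFThm.Stmt.{u}) (hB : bau (S : Subgroup G) ≤ T) (R : Subgroup G) (hR : IsMinPar T R) (hT : Syl T R)
    (hc : R ⊓ centralizer (o2 R : Set G) ≤ o2 R) (hK : ¬ jj (S : Subgroup G) ≤ o2 R)
    (hZ : ¬ R ≤ centralizer (zc T : Set G)) :
    ∃ (L' : Subgroup G) (l : ι), L' ≤ R ∧ R ≤ L' ⊔ T ∧ L' ≤ normalizer (W l : Set G) ∧
      ¬ L' ≤ normalizer (Z l : Set G) := by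
  have hjj : jj T = jj (S : Subgroup G) := LemmaK.Main.jj_eq S hT.2.1 hB
  obtain ⟨L', V', ⟨⟨Z', q', hF⟩, hb⟩, h1, h2⟩ := blkGenS hFF S hT hB hR hc (by rw [hjj]; exact hK) hZ
  obtain ⟨i, rfl, rfl, hle⟩ := h.uniTwo htr hF hb
  refine ⟨L', i, h1, h2, fun l hl => ?_, fun hcon => ?_⟩
  · rw [mem_normalizer_iff_cj]
    refine Subgroup.eq_of_le_of_card_ge ?_ (by rw [card_cj])
    rintro _ ⟨w, hw, rfl⟩
    exact hF.nV l hl w hw
  · obtain ⟨l, hl, hne, -⟩ := hF.exists_mv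
    exact hne (mem_normalizer_iff_cj.1 (hcon hl))

/-- **`TC.Fr` at stage `-1`**, from the frame `Bs`. -/
theorem exists_fr_bs [Finite G] {S : Sylow 2 G} {P : Subgroup G} {L W Z C A : Fin 2 → Subgroup G}
    (h : Bs S P L W Z C A 2 (mm (S : Subgroup G))) (hFF : FFThm.Stmt.{u})
    (nonloc : NonLoc (normalizer (Z 0 : Set G)) (normalizer (Z 1 : Set G))) :
    ∃ (v : Fin 2 → G) (R : Fin 2 → Subgroup G), (∀ i, ∀ x, x ∈ Z i ↔ x = 1 ∨ x = v i) ∧
      KTwo.Sit S P ((S : Subgroup G) ⊓ normalizer (Z 0 : Set G)) W v ∧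
      Fr ((S : Subgroup G) ⊓ normalizer (Z 0 : Set G)) W R v := by
  have hbg : Bg S P (bau (S : Subgroup G)) (zj (S : Subgroup G)) L W Z C 2 := Bg.of_bs h fun h2 => absurd h2 (by omega)
  have hl : Line S P L W Z C A 2 := ⟨h.hyp, h.fr, h.two⟩
  have htr : ∀ i j : Fin 2, ∃ s ∈ (S : Subgroup G), cj s (Z i) = Z j := fun i j => by
    obtain ⟨s, hs, e⟩ := h.trans i j
    exact ⟨s, hs, (h.cj_Z_iff hs).2 e⟩
  exact exists_fr_of hbg (LevD.LB.neg S) (fun R hR hT hc hK hZ =>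
    blk_neg hl htr hFF (hbg.bau_le_T 0) R hR hT hc hK hZ) nonloc

/-- If `K0 = ⟨C_G(Z_J), all FF-blocks over B⟩` normalises no 2-group then `⟨N(Z 0), N(Z 1)⟩` is nonlocal. -/
theorem nonloc_bs [Finite G] {S : Sylow 2 G} {P : Subgroup G} {L W Z C A : Fin 2 → Subgroup G}
    (h : Bs S P L W Z C A 2 (mm (S : Subgroup G)))
    (hE : ∀ R : Subgroup G, IsPGroup 2 R →
      Dich.K0 (S : Subgroup G) (FBlk (S : Subgroup G)) ≤ normalizer (R : Set G) → R = ⊥) :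
    NonLoc (normalizer (Z 0 : Set G)) (normalizer (Z 1 : Set G)) := by
  intro U hU h0 h1
  refine hE U hU ?_
  have hl : Line S P L W Z C A 2 := ⟨h.hyp, h.fr, h.two⟩
  have htr : ∀ i j : Fin 2, ∃ s ∈ (S : Subgroup G), cj s (Z i) = Z j := fun i j => by
    obtain ⟨s, hs, e⟩ := h.trans i j
    exact ⟨s, hs, (h.cj_Z_iff hs).2 e⟩
  rw [hl.K0_eq htr]
  refine sup_le ?_ (iSup_le fun i => ?_)
  · refine le_trans ?_ h0
    exact (centralizer_le (h.fr.Z_le 0)).trans (centralizer_le_normalizer _)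
  · have h2 : ∀ a : Fin 2, a = 0 ∨ a = 1 := by decide
    rcases h2 i with rfl | rfl
    · exact (h.L_norm (i := 1) (j := 0) (by decide)).trans h1
    · exact (h.L_norm (i := 0) (j := 1) (by decide)).trans h0

/-- **`TC.Fr` at stage `-1`**: `V_P` is the sum of two natural `SL₂(2)`-modules, `J(S) ≰ O₂(P)`. -/
theorem exists_fr_neg [Finite G] {S : Sylow 2 G} {P : Subgroup G} (h : HypJ S P) (hFF : FFThm.Stmt.{u})
    {F : Type} [Field F] [Finite F] [CharP F 2] (hq : Nat.card F = 2)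
    (N : NatK F (S : Subgroup G) P (zl (S : Subgroup G) P) (cv (S : Subgroup G) P) 2) :
    ∃ L W Z C A : Fin 2 → Subgroup G, Bs S P L W Z C A 2 (mm (S : Subgroup G)) ∧
      (NonLoc (normalizer (Z 0 : Set G)) (normalizer (Z 1 : Set G)) →
        ∃ (v : Fin 2 → G) (R : Fin 2 → Subgroup G), (∀ i, ∀ x, x ∈ Z i ↔ x = 1 ∨ x = v i) ∧
          KTwo.Sit S P ((S : Subgroup G) ⊓ normalizer (Z 0 : Set G)) W v ∧
          Fr ((S : Subgroup G) ⊓ normalizer (Z 0 : Set G)) W R v) := by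
  obtain ⟨L, Z, A, hB, -⟩ := exists_bs h le_rfl N
  rw [hq] at hB
  exact ⟨L, _, Z, _, A, hB, fun hn => exists_fr_bs hB hFF hn⟩

end Cfsg.Agent.Omega.TC.UniOne

end

-- merged: Cfsg.Agent.Mrg.Omega.OM.Lev.Main
section

section


/-!
# `HypL S P`, `V_P` a sum of `k ≥ 2` natural modules: the frame `Bg`

* `Hy.perm`, `Hy.trans`, `Hy.tr`, `Hy.scal` : the fields of `Bg`;
* `bg_K` : a level `K` (`Lev S K`, `K ≤ O₂(P)`, a best offender on `Ω₁(Z(K))` is not in `O₂(P)`):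
  `ZJ = Ω₁(Z(nxt S K))`, `B = C_S(ZJ)`, the frames `FrL` and `Bg`; `bg_lev` : stage `n`, `K = lev S n`;
* `bg_J` : stage `-1`;
* `exists_bg` : `HypL S P`, `NatKM F S P (zl S P) (cv S P) k`, `2 ≤ k` gives `Bg S P B ZJ L W Z C |F|`.
-/

set_option autoImplicit false
set_option linter.unusedSectionVars false
set_option linter.unusedVariables false

namespace Cfsg.Agent.Omega.OM.Lev.Main

open Subgroup Cfsg Cfsg.Agent.PLocal.ThompsonJ Cfsg.Agent.ZN Cfsg.Agent.ZN.ChoiceBase Cfsg.Agent.Omega.MinPar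
open Cfsg.Agent.Omega.NatPair (ap ap_zero' ap_one' ap_one ap_mul ext2 exists_ap)
open Cfsg.Agent.Lib.SL2Mat
open Cfsg.Agent.Omega.SQ1.FFOne
open Cfsg.Agent.Omega.FFThm (NatK ActsSL Off OffM NatKM ElemM NoOverM)
open Cfsg.Agent.Omega.FrameFF (cv)
open Cfsg.Agent.Omega.NO3S (HypL HypN HypJ Hyp)
open Cfsg.Agent.Omega.NO3S.OneLine (NatC)
open Cfsg.Agent.Omega.NO3S.Level (lev lev_isLev)
open Cfsg.Agent.Omega.NO3S.EThree.Frame (Bg Fg ScalG)
open Cfsg.Agent.Omega.OM.Lev.Uni (FrL Best)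
open Cfsg.Agent.Omega.OM.Lev.Nat Cfsg.Agent.Omega.OM.Lev.Exa

universe u

variable {G : Type u} [Group G] [Finite G]

section hy

variable {F : Type} [Field F] [Finite F] [CharP F 2] {T H V D : Subgroup G} {k : ℕ}
  {M : NatC F T H V D k} {B ZJ : Subgroup G} (h : Hy M B ZJ)

omit [Finite F] [CharP F 2] in
theorem cj_WC {g : G} {σ : Equiv.Perm (Fin k)} (hg : g ∈ H)
    (hσ : ∀ v ∈ V, ∀ i, M.nat.e (g * v * g⁻¹) (σ i) = 0 ↔ M.nat.e v i = 0) (i : Fin k) :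
    cj g (Wn M i) = Wn M (σ i) ∧ cj g (Cn M i) = Cn M (σ i) := by
  have hgv : ∀ x ∈ V, g⁻¹ * x * g ∈ V := by
    intro x hx
    have := M.Vn g⁻¹ (inv_mem hg) x hx
    rwa [inv_inv] at this
  have e0 : ∀ x : G, g * (g⁻¹ * x * g) * g⁻¹ = x := fun x => by group
  constructor
  · ext x
    rw [mem_cj]
    constructor
    · rintro ⟨hx, hx'⟩
      have hxV : x ∈ V := by
        have := M.Vn g hg _ hx
        rwa [e0] at this
      refine ⟨hxV, fun j hj => ?_⟩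
      have h1 := (hσ _ hx (σ.symm j)).2 (hx' _ fun e => hj (by rw [← e, Equiv.apply_symm_apply]))
      rwa [Equiv.apply_symm_apply, e0] at h1
    · rintro ⟨hx, hx'⟩
      refine ⟨hgv x hx, fun j hj => ?_⟩
      refine (hσ _ (hgv x hx) j).1 ?_
      rw [e0]
      exact hx' _ fun e => hj (σ.injective e)
  · ext x
    rw [mem_cj]
    constructor
    · rintro ⟨hx, hx'⟩
      have hxV : x ∈ V := by
        have := M.Vn g hg _ hx
        rwa [e0] at this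
      have h1 := (hσ _ hx i).2 hx'
      rw [e0] at h1
      exact ⟨hxV, h1⟩
    · rintro ⟨hx, hx'⟩
      refine ⟨hgv x hx, (hσ _ (hgv x hx) i).1 ?_⟩
      rw [e0]
      exact hx'

omit [Finite F] [CharP F 2] in
theorem perm {p : G} (hp : p ∈ H) : ∃ σ : Equiv.Perm (Fin k), ∀ i,
    cj p (Wn M i) = Wn M (σ i) ∧ cj p (Cn M i) = Cn M (σ i) := by
  obtain ⟨σ, hσ⟩ := M.nat.perm p hp
  exact ⟨σ, cj_WC hp hσ⟩

omit [Finite F] [CharP F 2] in
theorem trans (hTH : T ≤ H) (i j : Fin k) : ∃ t ∈ T, cj t (Wn M i) = Wn M j := by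
  classical
  obtain ⟨t, ht, hij⟩ := M.nat.trans i j
  have htP : t ∈ H := hTH ht
  obtain ⟨σ, hσ⟩ := M.nat.perm t htP
  have h1 := cj_WC htP hσ i
  have h2 : σ i = j := by
    by_contra hne
    obtain ⟨v, hv, e⟩ := M.nat.surj (Function.update 0 (σ i) ![1, 0])
    have h3 : M.nat.e v j = 0 := by rw [e, Function.update_of_ne (Ne.symm hne)]; rfl
    have hv0 : M.nat.e v (σ i) ≠ 0 := by
      rw [e, Function.update_self]
      intro h0
      have := congrFun h0 0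
      simp at this
    obtain ⟨w, hw, rfl⟩ : ∃ w ∈ V, t * w * t⁻¹ = v := by
      refine ⟨t⁻¹ * v * t, ?_, by group⟩
      have := M.Vn t⁻¹ (inv_mem htP) v hv
      rwa [inv_inv] at this
    exact hv0 ((hσ w hw i).2 ((hij w hw).1 h3))
  exact ⟨t, ht, h2 ▸ h1.1⟩

include h

omit [Finite F] [CharP F 2] in
theorem tr {Z : Fin k → Subgroup G} (hZ : ∀ i v, v ∈ Z i ↔ v ∈ Wn M i ∧ M.nat.e v i 1 = 0) (i : Fin k) {x : G}
    (hx : x ∈ Wn M i) (hx1 : x ≠ 1) : ∃ l ∈ H, l ∈ centralizer (Cn M i : Set G) ∧ ∃ z ∈ Z i, l * z * l⁻¹ = x := by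
  classical
  have hxi : M.nat.e x i ≠ 0 := by
    intro h0
    apply hx1
    refine h.inj hx.1 (one_mem _) ?_
    rw [M.map_one]
    funext j
    by_cases hj : j = i
    · rw [hj]; exact h0
    · exact hx.2 j hj
  obtain ⟨z, hz, e⟩ := M.nat.surj (Function.update 0 i ![1, 0])
  have hzW : z ∈ Wn M i := ⟨hz, fun j hj => by rw [e, Function.update_of_ne hj]; rfl⟩
  have hzi : M.nat.e z i = ![1, 0] := by rw [e, Function.update_self]
  have hzi0 : M.nat.e z i ≠ 0 := by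
    rw [hzi]
    intro h0
    have := congrFun h0 0
    simp at this
  obtain ⟨B', hB⟩ := exists_ap hzi0 hxi
  obtain ⟨l, hl, hlA, -⟩ := M.nat.lift (Function.update 1 i B')
  refine ⟨l, hl, mem_centralizer_iff.2 fun c hc => ?_, z, (hZ i z).2 ⟨hzW, by rw [hzi]; rfl⟩, ?_⟩
  · have h1 : l * c * l⁻¹ = c := by
      refine h.inj (M.Vn l hl c hc.1) hc.1 ?_
      funext j
      rw [hlA c hc.1 j]
      by_cases hj : j = i
      · have h0 : M.nat.e c i = 0 := hc.2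
        rw [hj, h0, ap_z]
      · rw [Function.update_of_ne hj, Pi.one_apply, ap_one]
    calc c * l = l * c * l⁻¹ * l := by rw [h1]
      _ = l * c := by group
  · refine h.inj (M.Vn l hl z hz) hx.1 ?_
    funext j
    rw [hlA z hz j]
    by_cases hj : j = i
    · rw [hj, Function.update_self, hB]
    · rw [Function.update_of_ne hj, Pi.one_apply, ap_one]
      exact (hzW.2 j hj).trans (hx.2 j hj).symm

theorem scal {Z : Fin k → Subgroup G} (hZ : ∀ i v, v ∈ Z i ↔ v ∈ Wn M i ∧ M.nat.e v i 1 = 0) (i : Fin k) :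
    ScalG B H (Wn M) Z (Cn M) i := by
  classical
  have hup : ∀ b ∈ B, ∃ c : Fin k → F, ∀ v ∈ V, ∀ i, M.nat.e (b * v * b⁻¹) i = ap (up (c i)) (M.nat.e v i) :=
    fun b hb => h.up_of hb
  have hBP := h.BH
  have hinj : ∀ v ∈ V, ∀ w ∈ V, M.nat.e v = M.nat.e w → v = w := fun v hv w hw e => h.inj hv hw e
  have hinv : ∀ v ∈ V, M.nat.e v⁻¹ = - M.nat.e v := fun v hv => M.map_inv hv
  have hmul := M.nat.mul
  have hone : M.nat.e 1 = 0 := M.map_one
  -- commutators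
  have hcomm : ∀ b ∈ B, ∀ c : Fin k → F, (∀ v ∈ V, ∀ i, M.nat.e (b * v * b⁻¹) i = ap (up (c i)) (M.nat.e v i)) →
      ∀ v ∈ V, ∀ j, M.nat.e (b * v * b⁻¹ * v⁻¹) j = ![c j * M.nat.e v j 1, 0] := by
    intro b hb c hc v hv j
    rw [hmul _ (M.Vn b (hBP hb) v hv) _ (inv_mem hv), hinv v hv, Pi.add_apply, Pi.neg_apply, hc v hv j]
    apply ext2
    · rw [Pi.add_apply, Pi.neg_apply, ap_zero', up_00, up_01]
      simp
    · rw [Pi.add_apply, Pi.neg_apply, ap_one', up_10, up_11]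
      simp
  have hnot : ∀ v ∈ Wn M i, v ∉ Z i → M.nat.e v i 1 ≠ 0 := fun v hv hvZ h0 => hvZ ((hZ i v).2 ⟨hv, h0⟩)
  refine ⟨fun v hv hvZ z hz => ?_, fun v hv hvZ v' hv' hvZ' => ?_⟩
  · have hv1 := hnot v hv hvZ
    obtain ⟨hzW, hz1⟩ := (hZ i z).1 hz
    obtain ⟨b, hbB, hbc⟩ := h.exists_b fun _ => M.nat.e z i 0 / M.nat.e v i 1
    refine ⟨b, hbB, hinj _ (mul_mem (M.Vn b (hBP hbB) v hv.1) (inv_mem hv.1)) _ hzW.1 ?_⟩
    funext j
    rw [hcomm b hbB _ hbc v hv.1 j]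
    by_cases hj : j = i
    · subst hj
      apply ext2
      · change M.nat.e z j 0 / M.nat.e v j 1 * M.nat.e v j 1 = _
        rw [div_mul_cancel₀ _ hv1]
      · exact hz1.symm
    · have h1 : M.nat.e v j = 0 := hv.2 j hj
      have h2 : M.nat.e z j = 0 := hzW.2 j hj
      rw [h1, h2]
      apply ext2 <;> simp
  · have hv1 := hnot v hv hvZ
    have hv1' := hnot v' hv' hvZ'
    set μ : F := M.nat.e v' i 1 / M.nat.e v i 1 with hμ
    have hμ0 : μ ≠ 0 := div_ne_zero hv1' hv1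
    let D : Matrix.SpecialLinearGroup (Fin 2) F := ⟨!![μ⁻¹, 0; 0, μ], by
      rw [Matrix.det_fin_two_of, mul_zero, sub_zero, inv_mul_cancel₀ hμ0]⟩
    have hD0 : ∀ x : Fin 2 → F, ap D x 0 = μ⁻¹ * x 0 := fun x => by
      rw [ap_zero']
      change μ⁻¹ * x 0 + 0 * x 1 = _
      rw [zero_mul, add_zero]
    have hD1 : ∀ x : Fin 2 → F, ap D x 1 = μ * x 1 := fun x => by
      rw [ap_one']
      change 0 * x 0 + μ * x 1 = _
      rw [zero_mul, zero_add]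
    obtain ⟨a, haP, haA, -⟩ := M.nat.lift (Function.update 1 i D)
    have ha : ∀ w ∈ V, M.nat.e (a * w * a⁻¹) i = ap D (M.nat.e w i) := fun w hw => by
      rw [haA w hw i, Function.update_self]
    have ha' : ∀ w ∈ V, ∀ j, j ≠ i → M.nat.e (a * w * a⁻¹) j = M.nat.e w j := fun w hw j hj => by
      rw [haA w hw j, Function.update_of_ne hj, Pi.one_apply, ap_one]
    have haV : ∀ w ∈ V, a * w * a⁻¹ ∈ V := M.Vn a haP
    have haV' : ∀ w ∈ V, a⁻¹ * w * a ∈ V := fun w hw => by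
      have := M.Vn a⁻¹ (inv_mem haP) w hw
      rwa [inv_inv] at this
    have hai : ∀ w ∈ V, M.nat.e (a⁻¹ * w * a) i 0 = μ * M.nat.e w i 0 ∧
        M.nat.e (a⁻¹ * w * a) i 1 = μ⁻¹ * M.nat.e w i 1 ∧
        ∀ j, j ≠ i → M.nat.e (a⁻¹ * w * a) j = M.nat.e w j := by
      intro w hw
      have e1 : a * (a⁻¹ * w * a) * a⁻¹ = w := by group
      have h1 := ha _ (haV' w hw)
      rw [e1] at h1
      refine ⟨?_, ?_, fun j hj => ?_⟩
      · rw [h1, hD0, ← mul_assoc, mul_inv_cancel₀ hμ0, one_mul]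
      · rw [h1, hD1, ← mul_assoc, inv_mul_cancel₀ hμ0, one_mul]
      · have := ha' _ (haV' w hw) j hj
        rw [e1] at this
        exact this.symm
    have haW : ∀ w ∈ Wn M i, a * w * a⁻¹ ∈ Wn M i := fun w hw =>
      ⟨haV w hw.1, fun j hj => (ha' w hw.1 j hj).trans (hw.2 j hj)⟩
    refine ⟨a, haP, mem_centralizer_iff.2 fun c hc => ?_, ?_, ?_, ?_, ?_⟩
    · have h1 : a * c * a⁻¹ = c := by
        refine hinj _ (haV c hc.1) _ hc.1 (funext fun j => ?_)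
        by_cases hj : j = i
        · have h0 : M.nat.e c i = 0 := hc.2
          rw [hj, ha c hc.1, h0, ap_z]
        · exact ha' c hc.1 j hj
      calc c * a = a * c * a⁻¹ * a := by rw [h1]
        _ = a * c := by group
    · rw [mem_normalizer_iff_cj]
      refine Subgroup.eq_of_le_of_card_ge ?_ (by rw [card_cj])
      rintro _ ⟨z, hz, rfl⟩
      obtain ⟨hzW, hz1⟩ := (hZ i z).1 hz
      refine (hZ i _).2 ⟨haW z hzW, ?_⟩
      change M.nat.e (a * z * a⁻¹) i 1 = 0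
      rw [ha z hzW.1, hD1, hz1, mul_zero]
    · intro b hb w hw
      obtain ⟨c, hc⟩ := hup b hb
      have hx : b * w * b⁻¹ * w⁻¹ ∈ V := mul_mem (M.Vn b (hBP hb) w hw.1) (inv_mem hw.1)
      refine hinj _ (mul_mem (M.Vn b (hBP hb) _ (haV w hw.1)) (inv_mem (haV w hw.1))) _ (haV' _ hx) ?_
      funext j
      rw [hcomm b hb c hc _ (haV w hw.1) j]
      obtain ⟨h1, h2, h3⟩ := hai _ hx
      by_cases hj : j = i
      · subst hj
        apply ext2
        · rw [h1, hcomm b hb c hc w hw.1 j, ha w hw.1, hD1]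
          change c j * (μ * M.nat.e w j 1) = μ * (c j * M.nat.e w j 1)
          ring
        · rw [h2, hcomm b hb c hc w hw.1 j]
          change (0 : F) = μ⁻¹ * 0
          rw [mul_zero]
      · rw [h3 j hj, hcomm b hb c hc w hw.1 j, ha' w hw.1 j hj]
    · refine (hZ i _).2 ⟨mul_mem (inv_mem hv') (haW v hv), ?_⟩
      rw [hmul _ (inv_mem hv'.1) _ (haV v hv.1), hinv v' hv'.1, Pi.add_apply, Pi.neg_apply, Pi.add_apply,
        Pi.neg_apply, ha v hv.1, hD1, hμ, div_mul_cancel₀ _ hv1, neg_add_cancel]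
    · intro hne w hw hfix
      have hμ1 : μ ≠ 1 := by
        intro h1
        apply hne
        refine (hZ i _).2 ⟨mul_mem (inv_mem hv') hv, ?_⟩
        rw [hμ, div_eq_one_iff_eq hv1] at h1
        rw [hmul _ (inv_mem hv'.1) _ hv.1, hinv v' hv'.1, Pi.add_apply, Pi.neg_apply, Pi.add_apply,
          Pi.neg_apply, h1, neg_add_cancel]
      have h1 := ha w hw.1
      rw [hfix] at h1
      refine hinj w hw.1 1 (one_mem _) ?_
      rw [hone]
      funext j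
      by_cases hj : j = i
      · subst hj
        have h2 := congrFun h1 0
        have h3 := congrFun h1 1
        rw [hD0] at h2
        rw [hD1] at h3
        have h4 : (μ - 1) * M.nat.e w j 1 = 0 := by rw [sub_mul, one_mul, ← h3, sub_self]
        have h5 : (μ - 1) * M.nat.e w j 0 = 0 := by
          have : μ * M.nat.e w j 0 = M.nat.e w j 0 := by
            conv_lhs => rw [h2]
            rw [← mul_assoc, mul_inv_cancel₀ hμ0, one_mul]
          rw [sub_mul, one_mul, this, sub_self]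
        have hμ2 : μ - 1 ≠ 0 := sub_ne_zero.2 hμ1
        apply ext2
        · exact (mul_eq_zero.1 h5).resolve_left hμ2
        · exact (mul_eq_zero.1 h4).resolve_left hμ2
      · exact hw.2 j hj

end hy

/-- `FrL` gives `Fg`. -/
theorem toFg {ι : Type*} {B Q V X ZJ : Subgroup G} {L W Z C A : ι → Subgroup G} {q : ℕ}
    (h : FrL B Q V X ZJ L W Z C A q) : Fg B Q V ZJ L W Z C q where
  blk := h.blk
  cardZ := h.cardZ
  QB := h.QB
  VQ := h.VQ
  el := h.el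
  mem_Q := h.mem_Q
  zcQ := h.zcQ
  mem_ZJ := h.mem_ZJ
  LV := h.LV
  LQ := h.LQ
  WV := h.WV
  CV := h.CV
  WC := h.WC
  dir := h.dir
  C0 := h.C0
  WjC := h.WjC
  BC := h.BC
  LC := h.LC

/-- the root group -/
theorem root {ι : Type*} {B Q V X ZJ : Subgroup G} {L W Z C A : ι → Subgroup G} {q : ℕ}
    (h : FrL B Q V X ZJ L W Z C A q) (i : ι) {v : G} (hv : v ∈ W i) (hvZ : v ∉ Z i) {z : G} (hz : z ∈ Z i) :
    ∃ b ∈ A i, b ∈ centralizer (C i : Set G) ∧ b * v * b⁻¹ * v⁻¹ = z := by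
  obtain ⟨R, h1, h2, -, h4⟩ := (h.blk i).toMd.relIndex_comm (h.AB i) hv hvZ
  have h5 := (h.A_full i).2.2
  rw [← h5] at h4
  have h6 : Nat.card R = q := Nat.eq_of_mul_eq_mul_right Nat.card_pos h4
  have h7 : R = Z i := Subgroup.eq_of_le_of_card_ge h1 (by rw [h6, h.cardZ])
  rw [← h7] at hz
  obtain ⟨x, hx, e⟩ := h2 z hz
  exact ⟨x, hx, mem_centralizer_iff.2 fun c hc => (h.AC i x hx c hc).symm, e.symm⟩

section main

variable {S : Sylow 2 G} {P : Subgroup G} {F : Type} [Field F] [Finite F] [CharP F 2] {k : ℕ}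

/-- **The frames at a level `K`.** `X = Ω₁(Z(K))`, `ZJ = Ω₁(Z(nxt S K))`, `B = C_S(ZJ)`. -/
theorem bg_K (h : HypN S P) {K : Subgroup G} (hL : NO3S.Level.Lev (S : Subgroup G) K) (hK : K ≤ o2 P)
    (hJ : ∃ A ∈ NO3S.Level.BO (S : Subgroup G) K, ¬ A ≤ o2 P) (hk : 2 ≤ k)
    (N : NatKM F (S : Subgroup G) P (zl (S : Subgroup G) P) (cv (S : Subgroup G) P) k) {B : Subgroup G}
    (eqB : B = (S : Subgroup G) ⊓
      centralizer ((zc (NO3S.Level.nxt (S : Subgroup G) K) : Subgroup G) : Set G)) :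
    ∃ (M : NatC F (S : Subgroup G) P (zl (S : Subgroup G) P) (cv (S : Subgroup G) P) k)
      (L Z A : Fin k → Subgroup G), M.nat = N.toNatK ∧
      FrL B (o2 P) (zl (S : Subgroup G) P) (zc K) (zc (NO3S.Level.nxt (S : Subgroup G) K))
        L (Wn M) Z (Cn M) A (Nat.card F) ∧
      Bg S P B (zc (NO3S.Level.nxt (S : Subgroup G) K)) L (Wn M) Z (Cn M) (Nat.card F) ∧
      (∀ i, A i ∈ NO3S.Level.BO (S : Subgroup G) K) ∧
      (∀ i, L i ≤ Xn M i) ∧
      (∀ i A, ∃ l ∈ L i, ∃ A', M.Acts l A' ∧ A' i = A) ∧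
      (∀ i v, v ∈ Z i ↔ v ∈ Wn M i ∧ M.nat.e v i 1 = 0) ∧
      ∀ v, v ∈ zc (NO3S.Level.nxt (S : Subgroup G) K) ↔
        v ∈ zl (S : Subgroup G) P ∧ ∀ i, M.nat.e v i 1 = 0 := by
  classical
  have hk0 : 0 < k := by omega
  have hG := h.toHyp.ctx.char2
  obtain ⟨E, -⟩ := NO3S.OneLine.exa_lev FF.Glob.ffthmM hG h.toHyp.star hL hK h.toHyp.inf_eq_bot hJ
  have hZJ : ∀ v, v ∈ zc (NO3S.Level.nxt (S : Subgroup G) K) ↔
      v ∈ zl (S : Subgroup G) P ∧ ∀ i, N.e v i 1 = 0 := by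
    intro v
    have h1 := E.cent_nat N hk0 (x := v)
    rw [NO3S.OneLine.zc_nxt_eq hL]
    exact h1
  have wc : WeakCl.WC B := Wc.wc_cent_Lev hL.next eqB
  have SZJ := Wc.S_norm_Lev hL.next
  set M := natM E N hk0 with hM
  have H : Hy M B (zc (NO3S.Level.nxt (S : Subgroup G) K)) := hy_of E N hk0 eqB hZJ wc SZJ
  choose A hA hAX hAb hA1 hA2 using exists_one E N hk0
  obtain ⟨L, Z, A', hL1, hA', hL2, hZ, hF⟩ := H.frL E.elem E.VX E.norm fun i =>
    ⟨A i, hA i, hAX i, hAb i, hA1 i, hA2 i⟩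
  refine ⟨M, L, Z, A', rfl, hF, ?_, fun i => ?_, hL1, hL2, hZ, hZJ⟩
  · exact
      { hyp := h
        fr := toFg hF
        wc := wc
        eqB := eqB
        SZJ := SZJ
        two := fun i => by
          have h1 : Nontrivial (Fin k) := Fin.nontrivial_iff_two_le.2 hk
          exact exists_ne i
        LP := fun i l hl => (hL1 i hl).1
        perm := fun p hp => perm hp
        trans := fun i j => trans H.syl.1 i j
        tr := fun i x hx hx1 => tr H hZ i hx hx1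
        root := fun i v hv hvZ z hz' => by
          obtain ⟨b, hb, h1, h2⟩ := root hF i hv hvZ hz'
          exact ⟨b, hF.AB i hb, h1, h2⟩
        nrm := fun g hg => hF.norm_of hg (NO3S.Level.normalizer_le_zc _ (Wc.norm_B_Lev hL eqB hg))
        scal := fun _ i => scal H hZ i }
  · exact ⟨hA' i, ⟨hF.AX i, fun F' h1 h2 => hF.best i F' h2 h1⟩⟩

/-- **The frames at stage `n`.** `X = Ω₁(Z(lev S n))`, `ZJ = Ω₁(Z(lev S (n + 1)))`, `B = C_S(ZJ)`. -/
theorem bg_lev (h : HypN S P) {n : ℕ} (hn : lev (S : Subgroup G) n ≤ o2 P)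
    (hn1 : ¬ lev (S : Subgroup G) (n + 1) ≤ o2 P) (hk : 2 ≤ k)
    (N : NatKM F (S : Subgroup G) P (zl (S : Subgroup G) P) (cv (S : Subgroup G) P) k) {B : Subgroup G}
    (eqB : B = (S : Subgroup G) ⊓ centralizer ((zc (lev (S : Subgroup G) (n + 1)) : Subgroup G) : Set G)) :
    ∃ (M : NatC F (S : Subgroup G) P (zl (S : Subgroup G) P) (cv (S : Subgroup G) P) k)
      (L Z A : Fin k → Subgroup G), M.nat = N.toNatK ∧
      FrL B (o2 P) (zl (S : Subgroup G) P) (zc (lev (S : Subgroup G) n)) (zc (lev (S : Subgroup G) (n + 1)))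
        L (Wn M) Z (Cn M) A (Nat.card F) ∧
      Bg S P B (zc (lev (S : Subgroup G) (n + 1))) L (Wn M) Z (Cn M) (Nat.card F) ∧
      (∀ i, A i ∈ NO3S.Level.BO (S : Subgroup G) (lev (S : Subgroup G) n)) ∧
      (∀ i, L i ≤ Xn M i) ∧
      (∀ i A, ∃ l ∈ L i, ∃ A', M.Acts l A' ∧ A' i = A) ∧
      (∀ i v, v ∈ Z i ↔ v ∈ Wn M i ∧ M.nat.e v i 1 = 0) ∧
      ∀ v, v ∈ zc (lev (S : Subgroup G) (n + 1)) ↔ v ∈ zl (S : Subgroup G) P ∧ ∀ i, M.nat.e v i 1 = 0 :=
  bg_K h (lev_isLev (S : Subgroup G) n) hn (NO3S.exists_BO h.toHyp.ctx.char2 h.toHyp.star hn hn1) hk N eqB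

/-- **Stage `-1`.** -/
theorem bg_J (h : HypJ S P) (hk : 2 ≤ k)
    (N : NatK F (S : Subgroup G) P (zl (S : Subgroup G) P) (cv (S : Subgroup G) P) k) :
    ∃ L W Z C : Fin k → Subgroup G, Bg S P (bau (S : Subgroup G)) (zj (S : Subgroup G)) L W Z C (Nat.card F) := by
  obtain ⟨L, Z, A, hB, hZ, -, -⟩ := NO3S.EThree.Frame.exists_bs h hk N
  exact ⟨L, _, Z, _, NO3S.EThree.Frame.Bg.of_bs hB fun _ i => NO3S.EThree.Frame.scal h (by omega) N hZ i⟩

end main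

end Cfsg.Agent.Omega.OM.Lev.Main

end

section


/-!
# The leaves `MultiTwoL`, `MultiQL` of NO-3S: the tree (assembler: helper388)

`HypL S P`, `V_P` a sum of `k ≥ 2` natural `SL₂(q)`-modules.  `StgP S P K B ZJ` is the level of `P`: stage `-1`:
`(jj S, bau S, zj S)`; stage `n`: `(lev S (n + 1), C_S(ZJ), Ω₁(Z(lev S (n + 1))))`. `Mul` collects `HypL`, `StgP` and
the frame `Bg` (helper186, helper109). `KZ B ZJ = ⟨C_G(Z_J), all FF-blocks over B⟩`.

```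
MultiTwoL, MultiQL
├── (Om) KZ normalises a nontrivial 2-group: OmOf K c
│     q = 2: THEOREM SW (394, 590, 100, 323), at levels helper590;  q ≥ 4: THEOREM Y (350), (4F) (203, 87)
└── (E)  KZ normalises no nontrivial 2-group: EOf K c, c = the condition on (k, q)
      q = 2: k = 2, k ≥ 3;  q ≥ 4: k = 2, k ≥ 3
```

* `Mul`, `exists_mul`, `Mul.fam`, `Mul.cases`;
* `multiTwoL_of`, `multiQL_of`;
* `K_eq` : `q = 2`: `KZ = ⟨C_G(Z_J), L_1, .., L_k⟩`;
* `omOf_of` : (Om) = stage `-1` (`OmNeg`) and stage `n` (`OmLev`); `noOm_neg`, `omNeg_two` : `OmNeg` for `q = 2`, modulo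
  `SitFalse`.
-/

set_option autoImplicit false
set_option linter.unusedSectionVars false

namespace Cfsg.Agent.Omega.Node.MultiOf

open Subgroup Cfsg Cfsg.Agent.ZN.ChoiceBase Cfsg.Agent.ZN.ChoiceSit
open Cfsg.Agent.ZN (jj zj bau zc zl o2)
open Cfsg.Agent.Omega.FFThm (NatK NatKM)
open Cfsg.Agent.Omega.FrameFF (cv)
open Cfsg.Agent.Omega.LemmaK (Block)
open Cfsg.Agent.Omega.NO3S (HypL HypN HypJ Hyp PSS)
open Cfsg.Agent.Omega.NO3S.Level (lev)
open Cfsg.Agent.Omega.Frame (Cls)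
open Cfsg.Agent.Omega.NO3S.EThree.Frame (Bg Fg)
open Cfsg.Agent.Omega.OM
open Cfsg.Agent.Omega.OM.Uni (FB)
open Cfsg.Agent.Omega.OM.LevD (LB)
open Cfsg.Agent.Omega.OM.Swap (SitFalse)

universe u

section defs

variable {G : Type u} [Group G]

/-- `L` is an FF-block over `B` with module `V`. -/
structure FBl (B L V : Subgroup G) : Prop where
  fb : ∃ Z q, FB B L V Z q
  blk : Block 2 B L V

theorem FBl.conj {B L V : Subgroup G} (h : FBl B L V) {n : G} (hn : n ∈ normalizer (B : Set G)) :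
    FBl B (cj n L) (cj n V) := by
  obtain ⟨Z, q, hF⟩ := h.fb
  have e := cj_eq_of_mem_normalizer hn
  refine ⟨⟨cj n Z, q, ?_⟩, ?_⟩
  · have := hF.conj n
    rwa [e] at this
  · have := BlkGen.block_conj h.blk n
    rwa [e] at this

/-- `K0 = ⟨C_G(Z_J), all FF-blocks over B⟩` -/
def KZ (B ZJ : Subgroup G) : Subgroup G := LevD.K0 ZJ (FBl B)

/-- `H` normalises no nontrivial 2-subgroup. -/
def NLoc (H : Subgroup G) : Prop :=
  ∀ R : Subgroup G, IsPGroup 2 R → H ≤ normalizer (R : Set G) → R = ⊥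

theorem NLoc.mono {H K : Subgroup G} (h : NLoc H) (hK : H ≤ K) : NLoc K := fun R hR hKR => h R hR (hK.trans hKR)

variable [Finite G]

/-- The level `(K, B, Z_J)` of `P`. -/
inductive StgP (S : Sylow 2 G) (P : Subgroup G) : Subgroup G → Subgroup G → Subgroup G → Prop
  | neg (h : ¬ jj (S : Subgroup G) ≤ o2 P) : StgP S P (jj (S : Subgroup G)) (bau (S : Subgroup G)) (zj (S : Subgroup G))
  | lev (n : ℕ) (hall : ∀ R, MinPar.IsParS (S : Subgroup G) R → lev (S : Subgroup G) n ≤ o2 R)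
      (hn : lev (S : Subgroup G) n ≤ o2 P) (hn1 : ¬ lev (S : Subgroup G) (n + 1) ≤ o2 P) :
      StgP S P (lev (S : Subgroup G) (n + 1))
        ((S : Subgroup G) ⊓ centralizer (zc (lev (S : Subgroup G) (n + 1)) : Set G))
        (zc (lev (S : Subgroup G) (n + 1)))

theorem StgP.lb {S : Sylow 2 G} {P K B ZJ : Subgroup G} (h : StgP S P K B ZJ) : LB S K B ZJ := by
  cases h with
  | neg h => exact LB.neg S
  | lev n _ _ _ => exact LB.lev S (n + 1)

/-- **Several natural blocks.** `V_P = W 1 × .. × W k`, the level and the frame. -/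
structure Mul (S : Sylow 2 G) (P K B ZJ : Subgroup G) {k : ℕ} (L W Z C : Fin k → Subgroup G) (q : ℕ) : Prop where
  hyp : HypL S P
  stg : StgP S P K B ZJ
  bg : Bg S P B ZJ L W Z C q
  /-- the field -/
  nat : ∃ (F : Type) (_ : Field F) (_ : Finite F) (_ : CharP F 2), Nat.card F = q ∧
    Nonempty (NatKM F (S : Subgroup G) P (zl (S : Subgroup G) P) (cv (S : Subgroup G) P) k)

theorem exists_mul {S : Sylow 2 G} {P : Subgroup G} (h : HypL S P) {F : Type} [Field F] [Finite F] [CharP F 2]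
    {k : ℕ} (hk : 2 ≤ k) (N : NatKM F (S : Subgroup G) P (zl (S : Subgroup G) P) (cv (S : Subgroup G) P) k) :
    ∃ (K B ZJ : Subgroup G) (L W Z C : Fin k → Subgroup G), Mul S P K B ZJ L W Z C (Nat.card F) := by
  rcases h.stage with hj | ⟨n, hn, hn1⟩
  · obtain ⟨L, W, Z, C, hB⟩ := Lev.Main.bg_J ⟨h.toHypN, hj⟩ hk N.toNatK
    exact ⟨_, _, _, L, W, Z, C, h, StgP.neg hj, hB, F, inferInstance, inferInstance, inferInstance, rfl, ⟨N⟩⟩
  · obtain ⟨M, L, Z, A, -, -, hB, -⟩ := Lev.Main.bg_lev h.toHypN (hn P h.star) hn1 hk N rfl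
    exact ⟨_, _, _, L, _, Z, _, h, StgP.lev n hn (hn P h.star) hn1, hB, F, inferInstance, inferInstance,
      inferInstance, rfl, ⟨N⟩⟩

end defs

/-- `V = ∏ W i` -/
theorem Fg_V_le {G : Type u} [Group G] {ι : Type*} [Finite ι] {B Q V ZJ : Subgroup G}
    {L W Z C : ι → Subgroup G} {q : ℕ} (h : Fg B Q V ZJ L W Z C q) : V ≤ ⨆ i, W i := by
  classical
  have : Fintype ι := Fintype.ofFinite ι
  have key : ∀ s : Finset ι, ∀ v ∈ V, ∃ w ∈ (⨆ i, W i), w ∈ V ∧ ∀ i ∈ s, w⁻¹ * v ∈ C i := by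
    intro s
    induction s using Finset.induction_on with
    | empty => exact fun v _ => ⟨1, one_mem _, one_mem _, fun i hi => by simp at hi⟩
    | insert j s hj ih =>
      intro v hv
      obtain ⟨w, hw, hwV, hwC⟩ := ih v hv
      obtain ⟨a, ha, c, hc, e⟩ := h.WC j (w⁻¹ * v) (mul_mem (inv_mem hwV) hv)
      refine ⟨w * a, mul_mem hw ((le_iSup W j) ha), mul_mem hwV (h.WV j ha), fun i hi => ?_⟩
      have e1 : (w * a)⁻¹ * v = a⁻¹ * (w⁻¹ * v) := by group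
      rw [e1]
      rcases Finset.mem_insert.1 hi with rfl | hi
      · rw [e]
        have : a⁻¹ * (a * c) = c := by group
        rw [this]
        exact hc
      · have hij : i ≠ j := fun e => hj (e ▸ hi)
        exact mul_mem (inv_mem (h.WjC i j hij ha)) (hwC i hi)
  intro v hv
  obtain ⟨w, hw, hwV, hwC⟩ := key Finset.univ v hv
  have h1 := h.C0 (w⁻¹ * v) (mul_mem (inv_mem hwV) hv) fun i => hwC i (Finset.mem_univ i)
  have h2 : v = w := (inv_mul_eq_one.1 h1).symm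
  rw [h2]
  exact hw

namespace Mul

variable {G : Type u} [Group G] [Finite G] {S : Sylow 2 G} {P K B ZJ : Subgroup G} {k : ℕ}
  {L W Z C : Fin k → Subgroup G} {q : ℕ} (h : Mul S P K B ZJ L W Z C q)
include h

theorem lb : LB S K B ZJ := h.stg.lb

theorem fbl (i : Fin k) : FBl B (L i) (W i) := ⟨⟨_, _, h.bg.fr.blk i⟩, h.bg.block i⟩

theorem fam : LevD.Fam B ZJ (FBl B) where
  blk := fun _ _ hb => hb.blk
  conj := fun _ hn _ _ hb => hb.conj hn
  zj_le := by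
    refine (h.bg.fr.ZJV.trans (Fg_V_le h.bg.fr)).trans (iSup_le fun i => ?_)
    exact le_iSup (fun i : {x : Subgroup G × Subgroup G // FBl B x.1 x.2} => i.1.2) ⟨(L i, W i), h.fbl i⟩

theorem L_le (i : Fin k) : L i ≤ KZ B ZJ := LevD.blk_le_K0 (h.fbl i)

omit h [Finite G] in
theorem cent_le : centralizer (ZJ : Set G) ≤ KZ B ZJ := LevD.cent_le_K0

/-- **the dichotomy** -/
theorem cases : NLoc (KZ B ZJ) ∨ (o2 (KZ B ZJ) ≠ ⊥ ∧ o2 (KZ B ZJ) ≤ B ∧
    KZ B ZJ ⊔ normalizer (B : Set G) ≤ normalizer (o2 (KZ B ZJ) : Set G)) := by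
  by_cases h0 : NLoc (KZ B ZJ)
  · exact Or.inl h0
  · right
    unfold NLoc at h0
    push Not at h0
    obtain ⟨R, hR, hRn, hR1⟩ := h0
    exact LevD.Fam.dich h.lb h.fam hR hR1 hRn

end Mul

/-! ### Sockets -/

section sockets

variable (K : Cls.{u}) (c : ℕ → ℕ → Prop)

/-- **(Om)**, for the `(k, q)` with `c k q`. -/
def OmOf : Prop :=
  ∀ (G : Type u) [Group G] [Finite G], K G → ∀ (S : Sylow 2 G) (P K' B ZJ : Subgroup G) (k : ℕ)
    (L W Z C : Fin k → Subgroup G) (q : ℕ), 2 ≤ k → c k q → Mul S P K' B ZJ L W Z C q →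
      o2 (KZ B ZJ) ≠ ⊥ → o2 (KZ B ZJ) ≤ B →
      KZ B ZJ ⊔ normalizer (B : Set G) ≤ normalizer (o2 (KZ B ZJ) : Set G) → IsKnownSimple' G

/-- **(Om)**, stage `-1`, for the `(k, q)` with `c k q`. -/
def OmNeg : Prop :=
  ∀ (G : Type u) [Group G] [Finite G], K G → ∀ (S : Sylow 2 G) (P : Subgroup G) (k : ℕ), HypL S P → HypJ S P → 2 ≤ k →
    ∀ (F : Type) [Field F] [Finite F] [CharP F 2], c k (Nat.card F) →
      NatKM F (S : Subgroup G) P (zl (S : Subgroup G) P) (cv (S : Subgroup G) P) k →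
        o2 (KZ (bau (S : Subgroup G)) (zj (S : Subgroup G))) ≠ ⊥ → IsKnownSimple' G

/-- **(Om)**, stage `n`, for the `(k, q)` with `c k q`; `B = C_S(ZJ)`, `ZJ = Ω₁(Z(lev S (n + 1)))`. -/
def OmLev : Prop :=
  ∀ (G : Type u) [Group G] [Finite G], K G → ∀ (S : Sylow 2 G) (P : Subgroup G) (k : ℕ), HypL S P → ∀ n : ℕ,
    (∀ R, MinPar.IsParS (S : Subgroup G) R → lev (S : Subgroup G) n ≤ o2 R) →
    ¬ lev (S : Subgroup G) (n + 1) ≤ o2 P → 2 ≤ k →
    ∀ (F : Type) [Field F] [Finite F] [CharP F 2], c k (Nat.card F) →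
      NatKM F (S : Subgroup G) P (zl (S : Subgroup G) P) (cv (S : Subgroup G) P) k →
        ∀ B ZJ : Subgroup G, ZJ = zc (lev (S : Subgroup G) (n + 1)) →
          B = (S : Subgroup G) ⊓ centralizer (zc (lev (S : Subgroup G) (n + 1)) : Set G) →
          o2 (KZ B ZJ) ≠ ⊥ → IsKnownSimple' G

/-- **(E)**, for the `(k, q)` with `c k q`. -/
def EOf : Prop :=
  ∀ (G : Type u) [Group G] [Finite G], K G → ∀ (S : Sylow 2 G) (P K' B ZJ : Subgroup G) (k : ℕ)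
    (L W Z C : Fin k → Subgroup G) (q : ℕ), 2 ≤ k → c k q → Mul S P K' B ZJ L W Z C q →
      NLoc (KZ B ZJ) → IsKnownSimple' G

end sockets

variable {K : Cls.{u}}

theorem omOf_of {c : ℕ → ℕ → Prop} (h1 : OmNeg K c) (h2 : OmLev K c) : OmOf K c := by
  intro G _ _ hK S P K' B ZJ k L W Z C q hk hc hM ho _ _
  obtain ⟨F, _, _, _, rfl, ⟨N⟩⟩ := hM.nat
  cases hM.stg with
  | neg hj => exact h1 G hK S P k hM.hyp ⟨hM.hyp.toHypN, hj⟩ hk F hc N ho
  | lev n hall hn hn1 => exact h2 G hK S P k hM.hyp n hall hn1 hk F hc N _ _ rfl rfl ho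

theorem known_of {c : ℕ → ℕ → Prop} (hO : OmOf K c) (hE : EOf K c) (G : Type u) [Group G] [Finite G] (hK : K G)
    (S : Sylow 2 G) (P : Subgroup G) (h : HypL S P) (F : Type) [Field F] [Finite F] [CharP F 2] (k : ℕ)
    (hk : 2 ≤ k) (hc : c k (Nat.card F))
    (N : NatKM F (S : Subgroup G) P (zl (S : Subgroup G) P) (cv (S : Subgroup G) P) k) : IsKnownSimple' G := by
  obtain ⟨K', B, ZJ, L, W, Z, C, hM⟩ := exists_mul h hk N
  rcases hM.cases with h1 | ⟨h1, h2, h3⟩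
  · exact hE G hK S P K' B ZJ k L W Z C _ hk hc hM h1
  · exact hO G hK S P K' B ZJ k L W Z C _ hk hc hM h1 h2 h3

/-- **`MultiTwoL`** -/
theorem multiTwoL_of (hO : OmOf K fun _ q => q = 2) (hE : EOf K fun k q => k = 2 ∧ q = 2)
    (hE' : EOf K fun k q => 3 ≤ k ∧ q = 2) : NO3S.MultiTwoL K := by
  intro G _ _ hK S P h F _ _ _ k hk hq N
  refine known_of (c := fun _ q => q = 2) hO ?_ G hK S P h F k hk hq N
  intro G _ _ hK S P K' B ZJ k L W Z C q hk hq hM hN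
  rcases Nat.lt_or_ge k 3 with hk3 | hk3
  · exact hE G hK S P K' B ZJ k L W Z C q hk ⟨by omega, hq⟩ hM hN
  · exact hE' G hK S P K' B ZJ k L W Z C q hk ⟨hk3, hq⟩ hM hN

/-- **`MultiQL`** -/
theorem multiQL_of (hO : OmOf K fun _ q => 4 ≤ q) (hE : EOf K fun k q => k = 2 ∧ 4 ≤ q)
    (hE' : EOf K fun k q => 3 ≤ k ∧ 4 ≤ q) : NO3S.MultiQL K := by
  intro G _ _ hK S P h F _ _ _ k hk hq N
  refine known_of (c := fun _ q => 4 ≤ q) hO ?_ G hK S P h F k hk hq N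
  intro G _ _ hK S P K' B ZJ k L W Z C q hk hq hM hN
  rcases Nat.lt_or_ge k 3 with hk3 | hk3
  · exact hE G hK S P K' B ZJ k L W Z C q hk ⟨by omega, hq⟩ hM hN
  · exact hE' G hK S P K' B ZJ k L W Z C q hk ⟨hk3, hq⟩ hM hN

/-! ### `q = 2` -/

section two

variable {G : Type u} [Group G] [Finite G] {S : Sylow 2 G} {P K' B ZJ : Subgroup G} {k : ℕ}
  {L W Z C : Fin k → Subgroup G}

/-- UNI+ for `q = 2` -/
def UniTwo (B ZJ : Subgroup G) {k : ℕ} (L W : Fin k → Subgroup G) : Prop :=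
  ∀ L' V' : Subgroup G, FBl B L' V' →
    ∃ i, V' = W i ∧ L' ≤ L i ⊔ centralizer ((W i ⊔ ZJ : Subgroup G) : Set G)

theorem K_eq (h : Mul S P K' B ZJ L W Z C 2) (hu : UniTwo B ZJ L W) :
    KZ B ZJ = centralizer (ZJ : Set G) ⊔ ⨆ i, L i := by
  apply le_antisymm
  · refine sup_le le_sup_left (iSup_le ?_)
    rintro ⟨⟨L', V'⟩, hb⟩
    obtain ⟨i, -, hle⟩ := hu L' V' hb
    refine hle.trans (sup_le (le_sup_of_le_right (le_iSup L i)) (le_sup_of_le_left (centralizer_le ?_)))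
    exact_mod_cast (le_sup_right : ZJ ≤ W i ⊔ ZJ)
  · exact sup_le Mul.cent_le (iSup_le fun i => h.L_le i)

/-- stage `-1`: `KZ = K0 S` -/
theorem KZ_neg (S : Sylow 2 G) : KZ (bau (S : Subgroup G)) (zj (S : Subgroup G)) =
    Dich.K0 (S : Subgroup G) (BlkGen.FBlk (S : Subgroup G)) := by
  apply le_antisymm
  · refine sup_le Dich.cent_le_K0 (iSup_le fun i => ?_)
    exact Dich.blk_le_K0 (S := S) (V := i.1.2) ⟨i.2.fb, i.2.blk⟩
  · refine sup_le LevD.cent_le_K0 (iSup_le fun i => ?_)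
    exact LevD.blk_le_K0 (V := i.1.2) ⟨i.2.fb, i.2.blk⟩

/-- **(Om) is impossible for `q = 2` at stage `-1`** (THEOREM SW). -/
theorem noOm_neg (hs : SitFalse.{u}) (hFF : FFThm.Stmt.{u}) (hA : FFBr.AStmt.{u}) (h : HypJ S P) (hk : 2 ≤ k)
    {F : Type} [Field F] [Finite F] [CharP F 2] (hF : Nat.card F = 2)
    (N : NatK F (S : Subgroup G) P (zl (S : Subgroup G) P) (cv (S : Subgroup G) P) k) :
    NLoc (KZ (bau (S : Subgroup G)) (zj (S : Subgroup G))) := by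
  obtain ⟨L, W, Z, C, A, -, -, -, -, hL⟩ := OM.Line.exists_nat h hk N
  rw [hF] at hL
  have h1 := Swap.noOm hs hL (Swap.mf hL) hFF hA
  rw [KZ_neg]
  exact h1

end two

/-- (Om), stage `-1`, `q = 2`, modulo `SitFalse`. -/
theorem omNeg_two (hs : SitFalse.{u}) (hFF : FFThm.Stmt.{u}) (hA : FFBr.AStmt.{u}) : OmNeg K fun _ q => q = 2 := by
  intro G _ _ hK S P k h hJ hk F _ _ _ hF N ho
  exact absurd (noOm_neg hs hFF hA hJ hk hF N.toNatK _ (isPGroup_o2 _) (le_normalizer_o2 _)) ho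

end Cfsg.Agent.Omega.Node.MultiOf

end

section


/-!
# NO-3S, MultiTwoL, case (E), `k = 2`: from the tree (`Node/MultiOf.lean`) to the common frame `TC.Fr`

* `EFr K` : the end over the common frame `TC.Fr` (with the data `Mul`, `KTwo.Sit`);
* `BlkS K B T` : minimal parabolics over `T` which move `Ω₁(Z(T))`, `K ≰ O₂(R)`, are generated by `T` and a block;
* `UniLev` : the level input (stage `n ≥ 0`): the frame `Bg` with UNI+ (`UniTwo`) and `BlkS` over `S ⊓ N(Z 0)`;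
* `nonloc_of`, `exists_fr` : the common frame `TC.Fr` from `Bg`, `UniTwo`, `BlkS` and case (E);
* `eOf_two` : `EFr K`, `UniLev` give `EOf K (k = 2 ∧ q = 2)`; stage `-1` needs nothing.
-/

set_option autoImplicit false
set_option linter.unusedSectionVars false

namespace Cfsg.Agent.Omega.TC.OfMul

open Subgroup Cfsg Cfsg.Agent.ZN.ChoiceBase
open Cfsg.Agent.ZN (jj zj bau zc zl o2)
open Cfsg.Agent.ZN.ChoiceSit (Syl)
open Cfsg.Agent.Omega.OM Cfsg.Agent.Omega.OM.Uni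
open Cfsg.Agent.Omega.NO3S (HypJ HypN Hyp HypL)
open Cfsg.Agent.Omega.NO3S.Level (lev)
open Cfsg.Agent.Omega.NO3S.EThree.Frame
open Cfsg.Agent.Omega.MinPar (NonLoc)
open Cfsg.Agent.MinSimple.MinParabolic (IsMinPar)
open Cfsg.Agent.Omega.FFThm (NatK NatKM)
open Cfsg.Agent.Omega.FrameFF (cv)
open Cfsg.Agent.Omega.Frame (Cls)
open Cfsg.Agent.Omega.Node.MultiOf
open scoped Pointwise

universe u

/-- **(E), `k = 2`, `q = 2`, over the common frame.** -/
def EFr (K : Cls.{u}) : Prop :=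
  ∀ (G : Type u) [Group G] [Finite G], K G → ∀ (S : Sylow 2 G) (P K' B ZJ : Subgroup G)
    (L W Z C R : Fin 2 → Subgroup G) (v : Fin 2 → G), Mul S P K' B ZJ L W Z C 2 → NLoc (KZ B ZJ) →
      (∀ i, ∀ x, x ∈ Z i ↔ x = 1 ∨ x = v i) →
      KTwo.Sit S P ((S : Subgroup G) ⊓ normalizer (Z 0 : Set G)) W v →
      Fr ((S : Subgroup G) ⊓ normalizer (Z 0 : Set G)) W R v → IsKnownSimple' G

/-- Minimal parabolics over `T` which move `Ω₁(Z(T))`, `K ≰ O₂(R)`, are generated by `T` and an FF-block over `B`. -/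
def BlkS {G : Type u} [Group G] (K B T : Subgroup G) : Prop :=
  ∀ R : Subgroup G, IsMinPar T R → Syl T R → R ⊓ centralizer (o2 R : Set G) ≤ o2 R →
    ¬ K ≤ o2 R → ¬ R ≤ centralizer (zc T : Set G) → ∃ L' V' : Subgroup G, FBl B L' V' ∧ L' ≤ R ∧ R ≤ L' ⊔ T

/-- **The level input.** -/
def UniLev (K : Cls.{u}) : Prop :=
  ∀ (G : Type u) [Group G] [Finite G], K G → ∀ (S : Sylow 2 G) (P : Subgroup G), HypL S P → ∀ n : ℕ,
    (∀ R, MinPar.IsParS (S : Subgroup G) R → lev (S : Subgroup G) n ≤ o2 R) →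
    ¬ lev (S : Subgroup G) (n + 1) ≤ o2 P →
    ∀ (F : Type) [Field F] [Finite F] [CharP F 2], Nat.card F = 2 →
      NatKM F (S : Subgroup G) P (zl (S : Subgroup G) P) (cv (S : Subgroup G) P) 2 →
        ∀ B ZJ : Subgroup G, ZJ = zc (lev (S : Subgroup G) (n + 1)) →
          B = (S : Subgroup G) ⊓ centralizer (zc (lev (S : Subgroup G) (n + 1)) : Set G) → NLoc (KZ B ZJ) →
          ∃ L W Z C : Fin 2 → Subgroup G, Bg S P B ZJ L W Z C 2 ∧ UniTwo B ZJ L W ∧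
            BlkS (lev (S : Subgroup G) (n + 1)) B ((S : Subgroup G) ⊓ normalizer (Z 0 : Set G))

section

variable {G : Type u} [Group G] [Finite G] {S : Sylow 2 G} {P K B ZJ : Subgroup G} {L W Z C : Fin 2 → Subgroup G}

/-- UNI+ and the nonlocal case. -/
theorem nonloc_of (h : Bg S P B ZJ L W Z C 2) (hu : UniTwo B ZJ L W) (hE : NLoc (KZ B ZJ)) :
    NonLoc (normalizer (Z 0 : Set G)) (normalizer (Z 1 : Set G)) := by
  have hL : ∀ i, L i ≤ normalizer (Z 0 : Set G) ∨ L i ≤ normalizer (Z 1 : Set G) := by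
    intro i
    have h2 : ∀ a : Fin 2, a = 0 ∨ a = 1 := by decide
    rcases h2 i with rfl | rfl
    · exact Or.inr (h.L_norm (i := 1) (j := 0) (by decide))
    · exact Or.inl (h.L_norm (i := 0) (j := 1) (by decide))
  have hc : centralizer (ZJ : Set G) ≤ normalizer (Z 0 : Set G) :=
    (centralizer_le (h.fr.Z_le 0)).trans (centralizer_le_normalizer _)
  intro U hU h0 h1
  refine hE U hU (sup_le (hc.trans h0) (iSup_le ?_))
  rintro ⟨⟨L', V'⟩, hb⟩
  obtain ⟨i, -, hle⟩ := hu L' V' hb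
  refine hle.trans (sup_le ?_ ?_)
  · rcases hL i with h3 | h3
    · exact h3.trans h0
    · exact h3.trans h1
  · refine (centralizer_le ?_).trans (hc.trans h0)
    exact_mod_cast (le_sup_right : ZJ ≤ W i ⊔ ZJ)

/-- the hypothesis of `UniOne.uni_of` -/
theorem hblk_of (h : Bg S P B ZJ L W Z C 2) (hu : UniTwo B ZJ L W) {T : Subgroup G} (hb : BlkS K B T)
    (R : Subgroup G) (hR : IsMinPar T R) (hT : Syl T R) (hc : R ⊓ centralizer (o2 R : Set G) ≤ o2 R)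
    (hK : ¬ K ≤ o2 R) (hZ : ¬ R ≤ centralizer (zc T : Set G)) :
    ∃ (L' : Subgroup G) (l : Fin 2), L' ≤ R ∧ R ≤ L' ⊔ T ∧ L' ≤ normalizer (W l : Set G) ∧
      ¬ L' ≤ normalizer (Z l : Set G) := by
  obtain ⟨L', V', hbl, h1, h2⟩ := hb R hR hT hc hK hZ
  obtain ⟨i, rfl, -⟩ := hu L' _ hbl
  obtain ⟨⟨Z', q', hF⟩, -⟩ := hbl
  refine ⟨L', i, h1, h2, fun l hl => ?_, fun hcon => ?_⟩
  · rw [mem_normalizer_iff_cj]
    refine Subgroup.eq_of_le_of_card_ge ?_ (by rw [card_cj])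
    rintro _ ⟨w, hw, rfl⟩
    exact hF.nV l hl w hw
  · obtain ⟨l, hl, hne, -⟩ := hF.exists_mv
    apply hne
    have hZ' : Z' = Z i := by
      ext x
      rw [hF.toMd.mem_Z_iff, (h.fr.blk i).toMd.mem_Z_iff]
    rw [hZ']
    exact mem_normalizer_iff_cj.1 (hcon hl)

/-- **`TC.Fr` from the tree**, at every level. -/
theorem exists_fr (h : Bg S P B ZJ L W Z C 2) (hK : LevD.LB S K B ZJ) (hu : UniTwo B ZJ L W)
    (hb : BlkS K B ((S : Subgroup G) ⊓ normalizer (Z 0 : Set G))) (hE : NLoc (KZ B ZJ)) :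
    ∃ (v : Fin 2 → G) (R : Fin 2 → Subgroup G), (∀ i, ∀ x, x ∈ Z i ↔ x = 1 ∨ x = v i) ∧
      KTwo.Sit S P ((S : Subgroup G) ⊓ normalizer (Z 0 : Set G)) W v ∧
      Fr ((S : Subgroup G) ⊓ normalizer (Z 0 : Set G)) W R v :=
  UniOne.exists_fr_of h hK (hblk_of h hu hb) (nonloc_of h hu hE)

end

/-- **(E), `k = 2`, `q = 2`, from the common frame.** -/
theorem eOf_two {K : Cls.{u}} (hFF : FFThm.Stmt.{u}) (hL : UniLev K) (hE : EFr K) :
    EOf K fun k q => k = 2 ∧ q = 2 := by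
  rintro G _ _ hG S P K' B ZJ k L W Z C q - ⟨rfl, rfl⟩ hM hN
  obtain ⟨F, _, _, _, hF, ⟨N⟩⟩ := hM.nat
  cases hM.stg with
  | neg hj =>
    have hJ : HypJ S P := ⟨hM.hyp.toHypN, hj⟩
    obtain ⟨L', W', Z', C', A', hB, hfr⟩ := UniOne.exists_fr_neg hJ hFF hF N.toNatK
    have hN' := hN
    rw [KZ_neg] at hN'
    obtain ⟨v, R, hv, D, hR⟩ := hfr (UniOne.nonloc_bs hB hN')
    have hbg := Bg.of_bs hB fun h2 => absurd h2 (by omega)
    exact hE G hG S P _ _ _ L' W' Z' C' R v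
      ⟨hM.hyp, StgP.neg hj, hbg, F, inferInstance, inferInstance, inferInstance, hF, ⟨N⟩⟩ hN hv D hR
  | lev n hall hn hn1 =>
    obtain ⟨L', W', Z', C', hbg, hu, hb⟩ := hL G hG S P hM.hyp n hall hn1 F hF N _ _ rfl rfl hN
    obtain ⟨v, R, hv, D, hR⟩ := exists_fr hbg (LevD.LB.lev S (n + 1)) hu hb hN
    exact hE G hG S P _ _ _ L' W' Z' C' R v
      ⟨hM.hyp, StgP.lev n hall hn hn1, hbg, F, inferInstance, inferInstance, inferInstance, hF, ⟨N⟩⟩ hN hv D hR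

end Cfsg.Agent.Omega.TC.OfMul

end

section


/-!
# CARD #18791: `V^!(T) = Ω₁(Z(T))` at every level

`VBang T` : every `T`-invariant elementary abelian subgroup of `T` on which no subgroup of `T` offends is `≤ Ω₁(Z(T))`
(`NO3b.Bang.bang T = V^!(T) ≤ Ω₁(Z(T))`).

* `exists_off` : (V!) in the form "every `T`-invariant elementary abelian `X ≤ T`, `X ≰ Ω₁(Z(T))` has an offender in `T`";
* `NN.jj_le`, `NN.lev_le` : members of `NN(T)` are centralised by `J(T)` and by all levels `≤ T`;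
* `vbang_of` : `VBang (S ⊓ N(Z 0))` from `Mul .. 2`, all stages.
-/

set_option autoImplicit false
set_option linter.unusedSectionVars false

namespace Cfsg.Agent.Omega.TC

open Subgroup Cfsg Cfsg.Agent.ZN.ChoiceBase
open Cfsg.Agent.ZN (jj zj bau zc zl o2)
open Cfsg.Agent.Omega.FFThm (OffM ElemM)
open Cfsg.Agent.Omega.NO3b.Bang
open Cfsg.Agent.Omega.NO3S.Level (lev nxt BO)
open Cfsg.Agent.Omega.OM
open Cfsg.Agent.Omega.Node.MultiOf
open Cfsg.Agent.Omega.NO3S.EThree.ExactA (eab_iff)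
open scoped Pointwise

universe u

variable {G : Type u} [Group G]

/-- **(V!)** `V^!(T) ≤ Ω₁(Z(T))`. -/
def VBang (T : Subgroup G) : Prop := bang T ≤ zc T

section fin

variable [Finite G] {T X : Subgroup G}

/-- **(V!)**: offenders on `T`-invariant elementary abelian subgroups. -/
theorem VBang.exists_off (h : VBang T) (hXT : X ≤ T) (hn : T ≤ normalizer (X : Set G))
    (hc : X ≤ centralizer (X : Set G)) (h2 : ∀ x ∈ X, x ^ 2 = 1) (hX : ¬ X ≤ zc T) :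
    ∃ A : Subgroup G, A ≤ T ∧ OffM X A := by
  by_contra hcon
  push Not at hcon
  exact hX ((NN.le_bang ⟨hXT, hn, hc, h2, hcon⟩).trans h)

/-- the members of `AA T` centralise the members of `NN(T)` -/
theorem NN_cent_AA (h : NN T X) {A : Subgroup G} (hA : A ∈ AA T) : A ≤ centralizer (X : Set G) := by
  by_contra hne
  rw [mem_AA_iff] at hA
  obtain ⟨hA2, hAT, hmax⟩ := hA
  rw [eab_iff] at hA2
  obtain ⟨hAc, hAsq⟩ := hA2
  refine h.nff A hAT ⟨offM_of_abel hAc hAsq, hne, ?_⟩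
  set B : Subgroup G := A ⊓ centralizer (X : Set G) with hB
  have hXB : X ≤ centralizer (B : Set G) := cent_symm inf_le_right
  have hn : B ≤ normalizer (X : Set G) := inf_le_right.trans (centralizer_le_normalizer _)
  have h1 := NoFF.ThmJ.card_sup_mul hn
  have hBB : B ≤ centralizer (B : Set G) := inf_le_left.trans (hAc.trans (centralizer_le (inf_le_left : B ≤ A)))
  -- `X B` is elementary abelian
  have hcomm : X ⊔ B ≤ centralizer ((X ⊔ B : Subgroup G) : Set G) := by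
    refine sup_le (cent_symm (sup_le h.comm inf_le_right)) (cent_symm (sup_le hXB hBB))
  have hsq : ∀ x ∈ X ⊔ B, x ^ 2 = 1 := by
    intro x hx
    obtain ⟨a, ha, b, hb, rfl⟩ := OM.KTwo.exists_mul_of_mem_sup
      (show B ≤ normalizer (X : Set G) from hn) (by rwa [sup_comm] at hx)
    have e : a * b = b * a := (mem_centralizer_iff.1 (hXB ha) b hb).symm
    have e1 := h.sq a ha
    have e2 := hAsq b hb.1
    calc (a * b) ^ 2 = a * (b * a) * b := by rw [pow_two]; group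
      _ = a ^ 2 * b ^ 2 := by rw [← e, pow_two, pow_two]; group
      _ = 1 := by rw [e1, e2, one_mul]
  obtain ⟨A', hA'⟩ := AA_nonempty T
  have hmem : Nat.card ↥(X ⊔ B) ≤ mm T := by
    have hle : X ⊔ B ≤ T := sup_le h.le (inf_le_left.trans hAT)
    by_contra hlt
    push Not at hlt
    have h3 : X ⊔ B ∈ AA T := mem_AA_iff.2 ⟨eab_iff.2 ⟨hcomm, hsq⟩, hle, hlt.le⟩
    rw [mm_eq h3] at hlt
    exact lt_irrefl _ hlt
  have h4 : Nat.card ↥(X ⊓ B) ≤ Nat.card ↥(X ⊓ centralizer (A : Set G)) :=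
    card_le_of_le (inf_le_inf_left _ (inf_le_left.trans hAc))
  calc Nat.card X * Nat.card B = Nat.card ↥(X ⊔ B) * Nat.card ↥(X ⊓ B) := h1.symm
    _ ≤ Nat.card A * Nat.card ↥(X ⊓ centralizer (A : Set G)) := Nat.mul_le_mul (hmem.trans hmax) h4

/-- `J(T)` centralises the members of `NN(T)`. -/
theorem NN_le_zc_jj (h : NN T X) : X ≤ zc (jj T) := by
  have hc : ∀ A ∈ AA T, A ≤ centralizer (X : Set G) := fun A hA => NN_cent_AA h hA
  have hJ : jj T ≤ centralizer (X : Set G) := by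
    rw [jj_eq]
    exact sSup_le hc
  intro x hx
  refine mem_zc.2 ⟨?_, h.sq x hx, fun y hy => (mem_centralizer_iff.1 (hJ hy) x hx).symm⟩
  obtain ⟨A, hA⟩ := AA_nonempty T
  refine le_jj hA ?_
  by_contra hxA
  have hA' := hA
  rw [mem_AA_iff] at hA'
  obtain ⟨hA2, hAT, hmax⟩ := hA'
  rw [eab_iff] at hA2
  obtain ⟨hAc, hAsq⟩ := hA2
  have hXA : X ≤ centralizer (A : Set G) := cent_symm (hc A hA)
  have hn : A ≤ normalizer (X : Set G) := (hc A hA).trans (centralizer_le_normalizer _)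
  have hcomm : X ⊔ A ≤ centralizer ((X ⊔ A : Subgroup G) : Set G) :=
    sup_le (cent_symm (sup_le h.comm (hc A hA))) (cent_symm (sup_le hXA hAc))
  have hsq : ∀ x ∈ X ⊔ A, x ^ 2 = 1 := by
    intro x hx
    obtain ⟨a, ha, b, hb, rfl⟩ := OM.KTwo.exists_mul_of_mem_sup
      (show A ≤ normalizer (X : Set G) from hn) (by rwa [sup_comm] at hx)
    have e : a * b = b * a := (mem_centralizer_iff.1 (hXA ha) b hb).symm
    have e1 := h.sq a ha
    have e2 := hAsq b hb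
    calc (a * b) ^ 2 = a * (b * a) * b := by rw [pow_two]; group
      _ = a ^ 2 * b ^ 2 := by rw [← e, pow_two, pow_two]; group
      _ = 1 := by rw [e1, e2, one_mul]
  have hle : X ⊔ A ≤ T := sup_le h.le hAT
  have h3 : X ⊔ A ∈ AA T := mem_AA_iff.2 ⟨eab_iff.2 ⟨hcomm, hsq⟩, hle, hmax.trans (card_le_of_le le_sup_right)⟩
  have h5 : Nat.card ↥(X ⊔ A) ≤ Nat.card A := by
    rw [← mm_eq h3]; exact hmax
  have h6 : A = X ⊔ A := Subgroup.eq_of_le_of_card_ge le_sup_right h5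
  exact hxA (h6 ▸ (le_sup_left : X ≤ X ⊔ A) hx)

/-- The levels `≤ T` centralise the members of `NN(T)`. -/
theorem NN_le_zc_lev {S : Subgroup G} (hTS : T ≤ S) (h : NN T X) : ∀ n, lev S n ≤ T → X ≤ zc (lev S n)
  | 0, hn => by
    have h1 : jj S ≤ T := hn
    have h2 := NN_le_zc_jj h
    rwa [jj_eq_of_jj_le h1 hTS] at h2
  | n + 1, hn => by
    have h1 := NN_le_zc_lev hTS h n ((NO3S.Level.lev_le_succ S n).trans hn)
    have hc : lev S (n + 1) ≤ centralizer (X : Set G) := by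
      refine sup_le (inf_le_right.trans (centralizer_le h1)) (sSup_le fun B hB => ?_)
      exact h.best ((BO.le_nxt hB).trans hn) h1 hB.2
    intro x hx
    refine mem_zc.2 ⟨NO3S.Level.lev_le_succ S n (mem_zc.1 (h1 hx)).1, h.sq x hx, fun y hy => ?_⟩
    exact (mem_centralizer_iff.1 (hc hy) x hx).symm

end fin

section gen

variable [Finite G] {S : Sylow 2 G} {P K B ZJ : Subgroup G} {k q : ℕ} {L W Z C : Fin k → Subgroup G}

end gen

section mul

variable [Finite G] {S : Sylow 2 G} {P K B ZJ : Subgroup G} {L W Z C : Fin 2 → Subgroup G}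

/-- `B ≤ S ⊓ N(Z 0)` -/
theorem B_le_T (h : Mul S P K B ZJ L W Z C 2) : B ≤ (S : Subgroup G) ⊓ normalizer (Z 0 : Set G) :=
  le_inf h.lb.BS ((h.lb.Bc.trans (centralizer_le (h.bg.fr.Z_le 0))).trans (centralizer_le_normalizer _))

/-- **(V!)** at every level. -/
theorem vbang_of (h : Mul S P K B ZJ L W Z C 2) {v : Fin 2 → G} (hv : ∀ i, ∀ x, x ∈ Z i ↔ x = 1 ∨ x = v i)
    (D : KTwo.Sit S P ((S : Subgroup G) ⊓ normalizer (Z 0 : Set G)) W v) :
    VBang ((S : Subgroup G) ⊓ normalizer (Z 0 : Set G)) := by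
  have hBT := B_le_T h
  have hKT := h.lb.KB.trans hBT
  have hX : bang ((S : Subgroup G) ⊓ normalizer (Z 0 : Set G)) ≤ ZJ := by
    have hN := nn_bang ((S : Subgroup G) ⊓ normalizer (Z 0 : Set G))
    cases h.stg with
    | neg hj =>
      have h1 := NN_le_zc_jj hN
      rw [jj_eq_of_jj_le hKT inf_le_left] at h1
      exact h1
    | lev n hall hn hn1 =>
      exact NN_le_zc_lev inf_le_left hN (n + 1) hKT
  refine hX.trans fun x hx => ?_
  rw [D.zT]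
  exact (OfBg.mem_ZJ_iff h.bg hv).1 hx

end mul

end Cfsg.Agent.Omega.TC

end

section


/-!
# NO-3S, MultiTwoL, case (E), `k ≥ 3`: from the tree (`Node/MultiOf.lean`) to UNI+ and block generation

* `exists_neg` : stage `-1`, any `k ≥ 2`, `q = 2`: the frame with `UniTwo` and `BlkS`, no hypothesis;
* `UniLevK K` : the level input (stage `n ≥ 0`), `k ≥ 3`;
* `EFrK K` : the end over `Mul`, `UniTwo` and `BlkS K' B B`;
* `eOf_three` : `UniLevK K`, `EFrK K` give `EOf K (3 ≤ k ∧ q = 2)`.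
-/

set_option autoImplicit false
set_option linter.unusedSectionVars false

namespace Cfsg.Agent.Omega.EK3.OfMul

open Subgroup Cfsg Cfsg.Agent.ZN.ChoiceBase
open Cfsg.Agent.ZN (jj zj bau zc zl o2)
open Cfsg.Agent.ZN.ChoiceSit (Syl)
open Cfsg.Agent.Omega.OM Cfsg.Agent.Omega.OM.Uni
open Cfsg.Agent.Omega.NO3S (HypJ HypN Hyp HypL)
open Cfsg.Agent.Omega.NO3S.Level (lev)
open Cfsg.Agent.Omega.NO3S.EThree.Frame
open Cfsg.Agent.MinSimple.MinParabolic (IsMinPar)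
open Cfsg.Agent.Omega.FFThm (NatK NatKM)
open Cfsg.Agent.Omega.FrameFF (cv)
open Cfsg.Agent.Omega.Frame (Cls)
open Cfsg.Agent.Omega.Node.MultiOf
open Cfsg.Agent.Omega.TC.OfMul (BlkS)
open scoped Pointwise

universe u

/-- **Stage `-1`, `q = 2`, every `k ≥ 2`**: the frame with UNI+ and block generation over every `T ≥ B`. -/
theorem exists_neg {G : Type u} [Group G] [Finite G] {S : Sylow 2 G} {P : Subgroup G} (h : HypL S P)
    (hj : ¬ jj (S : Subgroup G) ≤ o2 P) {k : ℕ} (hk : 2 ≤ k) {F : Type} [Field F] [Finite F] [CharP F 2]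
    (hF : Nat.card F = 2) (N : NatKM F (S : Subgroup G) P (zl (S : Subgroup G) P) (cv (S : Subgroup G) P) k) :
    ∃ L W Z C : Fin k → Subgroup G,
      Mul S P (jj (S : Subgroup G)) (bau (S : Subgroup G)) (zj (S : Subgroup G)) L W Z C 2 ∧
        UniTwo (bau (S : Subgroup G)) (zj (S : Subgroup G)) L W ∧
          ∀ T : Subgroup G, bau (S : Subgroup G) ≤ T → BlkS (jj (S : Subgroup G)) (bau (S : Subgroup G)) T := by
  have hJ : HypJ S P := ⟨h.toHypN, hj⟩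
  obtain ⟨L, Z, A, hB, -⟩ := exists_bs hJ hk N.toNatK
  rw [hF] at hB
  have hbg := Bg.of_bs hB fun h2 => absurd h2 (by omega)
  have hl : Line S P L _ Z _ A 2 := ⟨hB.hyp, hB.fr, hB.two⟩
  have htr : ∀ i j : Fin k, ∃ s ∈ (S : Subgroup G), cj s (Z i) = Z j := fun i j => by
    obtain ⟨s, hs, e⟩ := hB.trans i j
    exact ⟨s, hs, (hB.cj_Z_iff hs).2 e⟩
  refine ⟨L, _, Z, _, ⟨h, StgP.neg hj, hbg, F, inferInstance, inferInstance, inferInstance, hF, ⟨N⟩⟩, ?_, ?_⟩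
  · rintro L' V' ⟨⟨Z', q', hFB⟩, hb⟩
    obtain ⟨i, -, h1, h3⟩ := hl.uniTwo htr hFB hb
    exact ⟨i, h1, h3⟩
  · intro T hBT R hR hT hc hK hZ
    have hjj : jj T = jj (S : Subgroup G) := LemmaK.Main.jj_eq S hT.2.1 hBT
    obtain ⟨L', V', hb, h1, h2⟩ := TC.UniOne.blkGenS FF.Glob.ffthm S hT hBT hR hc (by rw [hjj]; exact hK) hZ
    exact ⟨L', V', ⟨hb.fb, hb.blk⟩, h1, h2⟩

/-- **The level input**, `k ≥ 3`, `q = 2`. -/
def UniLevK (K : Cls.{u}) : Prop :=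
  ∀ (G : Type u) [Group G] [Finite G], K G → ∀ (S : Sylow 2 G) (P : Subgroup G), HypL S P → ∀ n : ℕ,
    (∀ R, MinPar.IsParS (S : Subgroup G) R → lev (S : Subgroup G) n ≤ o2 R) →
    ¬ lev (S : Subgroup G) (n + 1) ≤ o2 P →
    ∀ (F : Type) [Field F] [Finite F] [CharP F 2] (k : ℕ), Nat.card F = 2 → 3 ≤ k →
      NatKM F (S : Subgroup G) P (zl (S : Subgroup G) P) (cv (S : Subgroup G) P) k →
        ∀ B ZJ : Subgroup G, ZJ = zc (lev (S : Subgroup G) (n + 1)) →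
          B = (S : Subgroup G) ⊓ centralizer (zc (lev (S : Subgroup G) (n + 1)) : Set G) → NLoc (KZ B ZJ) →
          ∃ L W Z C : Fin k → Subgroup G, Bg S P B ZJ L W Z C 2 ∧ UniTwo B ZJ L W ∧
            BlkS (lev (S : Subgroup G) (n + 1)) B B

/-- **(E), `k ≥ 3`, `q = 2`, over the frame.** -/
def EFrK (K : Cls.{u}) : Prop :=
  ∀ (G : Type u) [Group G] [Finite G], K G → ∀ (S : Sylow 2 G) (P K' B ZJ : Subgroup G) (k : ℕ)
    (L W Z C : Fin k → Subgroup G), 3 ≤ k → Mul S P K' B ZJ L W Z C 2 → NLoc (KZ B ZJ) →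
      UniTwo B ZJ L W → BlkS K' B B → IsKnownSimple' G

/-- **(E), `k ≥ 3`, `q = 2`.** -/
theorem eOf_three {K : Cls.{u}} (hL : UniLevK K) (hE : EFrK K) : EOf K fun k q => 3 ≤ k ∧ q = 2 := by
  rintro G _ _ hG S P K' B ZJ k L W Z C q - ⟨hk, rfl⟩ hM hN
  obtain ⟨F, _, _, _, hF, ⟨N⟩⟩ := hM.nat
  cases hM.stg with
  | neg hj =>
    obtain ⟨L', W', Z', C', hM', hu, hb⟩ := exists_neg hM.hyp hj (by omega) hF N
    exact hE G hG S P _ _ _ k L' W' Z' C' hk hM' hN hu (hb _ le_rfl)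
  | lev n hall hn hn1 =>
    obtain ⟨L', W', Z', C', hbg, hu, hb⟩ := hL G hG S P hM.hyp n hall hn1 F k hF hk N _ _ rfl rfl hN
    exact hE G hG S P _ _ _ k L' W' Z' C' hk
      ⟨hM.hyp, StgP.lev n hall hn hn1, hbg, F, inferInstance, inferInstance, inferInstance, hF, ⟨N⟩⟩ hN hu hb

end Cfsg.Agent.Omega.EK3.OfMul

end

section


/-!
# NO-3S, case (E), `k ≥ 3`, `q = 2`: (U) of bb #22451 (B2) (helper712), over `Bg` (typed by helper3)

`Y = C_G(Z l : l ≠ j)`, `B` a Sylow 2-subgroup of `Y`, `V_i = W i`, `V_j = W j`, `Zo Z j = Z^j = ⟨Z l : l ≠ j⟩`,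
`V_i^Y ⊆ O₂(P)`.

* `Zo Z j`, `Zo_le_ZJ`, `Zo_le_C`, `le_Zo` : `Z^j = Z_J ∩ C_j`;
* `dcmp` : `x ∈ V`, all components of `x` outside `i, j` in `Z l` : `x ∈ V_i V_j Z^j`;
* `UIn` : the input;
* **`UIn.uni`** : a minimal parabolic `R` over `B` in `Y` which normalises `V_j` and moves `Z j` fixes `V_i Z^j / Z^j`
  elementwise: `[r, v] ∈ Z^j`;
* **`UIn.nB`** : the same for `N_Y(B)`.
-/

set_option autoImplicit false
set_option linter.unusedSectionVars false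

namespace Cfsg.Agent.Omega.EK3.UFix

open Subgroup Cfsg Cfsg.Agent.ZN.ChoiceBase
open Cfsg.Agent.ZN (zc zl o2)
open Cfsg.Agent.ZN.ChoiceSit (Syl exists_syl syl_conj)
open Cfsg.Agent.MinSimple.MinParabolic (IsMinPar)
open Cfsg.Agent.Omega.SQ1.FFOne (syl_inf)
open Cfsg.Agent.Omega.NO3S.EThree.Frame

universe u

variable {G : Type u} [Group G]

/-- `Z^j = ⟨Z l : l ≠ j⟩` -/
def Zo {ι : Type} (Z : ι → Subgroup G) (j : ι) : Subgroup G := ⨆ l : {l : ι // l ≠ j}, Z l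

theorem le_Zo_of {ι : Type} {Z : ι → Subgroup G} {j l : ι} (hl : l ≠ j) : Z l ≤ Zo Z j :=
  le_iSup (fun l : {l : ι // l ≠ j} => Z l) ⟨l, hl⟩

section dec

variable [Finite G] {S : Sylow 2 G} {P : Subgroup G} {ι : Type} {B ZJ : Subgroup G}
  {L W Z C : ι → Subgroup G} {q : ℕ} (h : Bg S P B ZJ L W Z C q)
include h

theorem Zo_le_ZJ (j : ι) : Zo Z j ≤ ZJ := iSup_le fun l => h.fr.Z_le l

theorem Zo_le_C (j : ι) : Zo Z j ≤ C j :=
  iSup_le fun l => ((h.fr.blk l).ZV).trans (h.fr.WjC j l l.2.symm)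

/-- `Z_J ∩ C_j ≤ Z^j` -/
theorem le_Zo [Finite ι] (j : ι) : ZJ ⊓ C j ≤ Zo Z j := by
  classical
  have := Fintype.ofFinite ι
  rintro v ⟨hv, hvC⟩
  have key : ∀ s : Finset ι, j ∉ s → ∃ u ∈ Zo Z j, ∀ l ∈ s, u⁻¹ * v ∈ C l := by
    intro s
    induction s using Finset.induction_on with
    | empty => exact fun _ => ⟨1, one_mem _, by simp⟩
    | insert l s hl ih =>
      intro hi
      have hlj : l ≠ j := fun e => hi (e ▸ Finset.mem_insert_self _ _)
      obtain ⟨u, hu, h1⟩ := ih fun e => hi (Finset.mem_insert_of_mem e)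
      obtain ⟨w, hw, c, hc, -, e⟩ := h.fr.split_ZJ l (mul_mem (inv_mem (Zo_le_ZJ h j hu)) hv)
      refine ⟨u * w, mul_mem hu (le_Zo_of hlj hw), fun m hm => ?_⟩
      have e1 : (u * w)⁻¹ * v = w⁻¹ * (u⁻¹ * v) := by group
      rw [e1]
      rcases Finset.mem_insert.1 hm with rfl | hm
      · rw [e]
        have : w⁻¹ * (w * c) = c := by group
        rwa [this]
      · have hml : m ≠ l := fun e => hl (e ▸ hm)
        exact mul_mem (inv_mem (h.fr.WjC m l hml ((h.fr.blk l).ZV hw))) (h1 m hm)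
  obtain ⟨u, hu, h1⟩ := key (Finset.univ.erase j) (Finset.notMem_erase _ _)
  have h2 : u⁻¹ * v = 1 := by
    refine h.fr.C0 _ (mul_mem (inv_mem (h.fr.CV j (Zo_le_C h j hu))) (h.fr.ZJV hv)) fun l => ?_
    by_cases hl : l = j
    · subst hl
      exact mul_mem (inv_mem (Zo_le_C h l hu)) hvC
    · exact h1 l (Finset.mem_erase.2 ⟨hl, Finset.mem_univ _⟩)
  rw [← inv_mul_eq_one.1 h2]
  exact hu

/-- an element of `V` whose components outside `i`, `j` lie in `Z l` is in `V_i V_j Z^j` -/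
theorem dcmp [Finite ι] {i j : ι} (hij : i ≠ j) {x : G} (hx : x ∈ zl (S : Subgroup G) P)
    (hl : ∀ l, l ≠ i → l ≠ j → ∃ w ∈ Z l, ∃ c ∈ C l, x = w * c) :
    ∃ a ∈ W i, ∃ b ∈ W j, ∃ z ∈ Zo Z j, x = a * b * z := by
  obtain ⟨b, hb, c, hc, e⟩ := h.fr.WC j x hx
  obtain ⟨a, ha, c', hc', e'⟩ := h.fr.WC i c (h.fr.CV j hc)
  have haj : a ∈ C j := h.fr.WjC j i hij.symm ha
  have hc'j : c' ∈ C j := by
    have : c' = a⁻¹ * c := by rw [e']; group
    rw [this]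
    exact mul_mem (inv_mem haj) hc
  have hc'V := h.fr.CV j hc'j
  have hab : b * a = a * b := h.fr.Vc (h.fr.WV j hb) (h.fr.WV i ha)
  refine ⟨a, ha, b, hb, c', le_Zo h j ⟨(h.fr.mem_ZJ c').2 ⟨hc'V, fun t ht => ?_⟩, hc'j⟩, ?_⟩
  · -- `[t, c'] = 1`
    have hV : t * c' * t⁻¹ ∈ C j := h.fr.BC j t ht c' hc'j
    have h1 : t * c' * t⁻¹ * c'⁻¹ = 1 := by
      refine h.fr.C0 _ (mul_mem (h.fr.CV j hV) (inv_mem hc'V)) fun l => ?_
      by_cases hli : l = i
      · subst hli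
        exact mul_mem (h.fr.BC l t ht c' hc') (inv_mem hc')
      by_cases hlj : l = j
      · subst hlj
        exact mul_mem hV (inv_mem hc'j)
      · obtain ⟨w, hw, d, hd, ex⟩ := hl l hli hlj
        have hal : a ∈ C l := h.fr.WjC l i hli ha
        have hbl : b ∈ C l := h.fr.WjC l j hlj hb
        -- `c' = w * d'`
        have hd' : b⁻¹ * a⁻¹ * d ∈ C l := mul_mem (mul_mem (inv_mem hbl) (inv_mem hal)) hd
        have hwV := h.fr.ZV l hw
        have hbaV : b⁻¹ * a⁻¹ ∈ zl (S : Subgroup G) P := mul_mem (inv_mem (h.fr.WV j hb)) (inv_mem (h.fr.WV i ha))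
        have ec : c' = w * (b⁻¹ * a⁻¹ * d) := by
          have h2 : x = b * (a * c') := by rw [e, e']
          have h3 : c' = a⁻¹ * b⁻¹ * x := by rw [h2]; group
          have h4 : a⁻¹ * b⁻¹ = b⁻¹ * a⁻¹ := h.fr.Vc (inv_mem (h.fr.WV i ha)) (inv_mem (h.fr.WV j hb))
          rw [h3, ex, h4, ← mul_assoc, ← mul_assoc, h.fr.Vc hbaV hwV]
        have hcw : t * w = w * t := (h.fr.blk l).cZ t ht w hw
        set d' := b⁻¹ * a⁻¹ * d with hd'e
        have e5 : t * c' * t⁻¹ * c'⁻¹ = w * (t * d' * t⁻¹ * d'⁻¹) * w⁻¹ := by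
          rw [ec]
          calc t * (w * d') * t⁻¹ * (w * d')⁻¹ = (t * w) * d' * t⁻¹ * d'⁻¹ * w⁻¹ := by group
            _ = (w * t) * d' * t⁻¹ * d'⁻¹ * w⁻¹ := by rw [hcw]
            _ = _ := by group
        have h6 : t * d' * t⁻¹ * d'⁻¹ ∈ C l := mul_mem (h.fr.BC l t ht d' hd') (inv_mem hd')
        rw [e5, h.fr.Vc hwV (h.fr.CV l h6), mul_inv_cancel_right]
        exact h6
    exact mul_inv_eq_iff_eq_mul.1 (mul_inv_eq_one.1 h1)
  · rw [e, e', ← mul_assoc, hab]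

end dec

/-- The input of (U). -/
structure UIn [Finite G] (S : Sylow 2 G) (P B ZJ : Subgroup G) {ι : Type} (L W Z C : ι → Subgroup G) (i j : ι)
    (Y : Subgroup G) : Prop where
  bg : Bg S P B ZJ L W Z C 2
  ij : i ≠ j
  cen : ∀ l, l ≠ j → Y ≤ centralizer (Z l : Set G)
  PY : P ⊓ centralizer (C j : Set G) ≤ Y
  syl : Syl B Y

/-- `C_B(V_j)` is normal in a minimal parabolic `R` over `B` which normalises `V_j` and moves `Z j` -/
theorem norm_T0 [Finite G] {B W Z R : Subgroup G} (hB : Syl B R) (hmin : IsMinPar B R)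
    (hRW : R ≤ normalizer (W : Set G)) (hZW : Z ≤ W) (hBZ : B ≤ centralizer (Z : Set G))
    (hmv : ¬ R ≤ centralizer (Z : Set G)) : R ≤ normalizer ((B ⊓ centralizer (W : Set G) : Subgroup G) : Set G) := by
  obtain ⟨R₀, hR₀, hmax⟩ := hmin.exists_max
  set N : Subgroup G := R ⊓ centralizer (W : Set G) with hN
  have hNn : R ≤ normalizer (N : Set G) := by
    intro r hr
    rw [mem_normalizer_iff_cj, hN, cj_inf, cj_centralizer, cj_eq_of_mem_normalizer (le_normalizer hr),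
      cj_eq_of_mem_normalizer (hRW hr)]
  have hBN : B ⊓ N = B ⊓ centralizer (W : Set G) := by
    rw [hN, ← inf_assoc, inf_eq_left.2 hB.1]
  have hT := syl_inf hB (inf_le_left : N ≤ R) fun r hr n hn => (mem_normalizer_iff.1 (hNn hr) n).1 hn
  rw [hBN] at hT
  -- `N B < R`
  have h1 : N ⊔ B ≤ R₀ := by
    refine hmax _ le_sup_right (lt_of_le_of_ne (sup_le inf_le_left hB.1) fun e => hmv ?_)
    rw [← e]
    exact sup_le (inf_le_right.trans (centralizer_le hZW)) hBZ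
  have hfr : ∀ r ∈ R, ∃ c ∈ N, c * r ∈ normalizer ((B ⊓ centralizer (W : Set G) : Subgroup G) : Set G) := by
    intro r hr
    have h2 : Syl (cj r (B ⊓ centralizer (W : Set G))) N := by
      refine ⟨?_, isPGroup_cj r hT.2.1, fun Q hQ hQ2 hle => ?_⟩
      · rw [← cj_eq_of_mem_normalizer (hNn hr)]
        exact cj_mono r hT.1
      · symm
        refine Subgroup.eq_of_le_of_card_ge hle ?_
        have h3 := hT.2.2 (cj r⁻¹ Q) (by
          rw [cj_le_iff, inv_inv, cj_eq_of_mem_normalizer (hNn hr)]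
          exact hQ) (isPGroup_cj _ hQ2) (by
          rw [← cj_inv_cj r (B ⊓ centralizer (W : Set G))]
          exact cj_mono _ hle)
        rw [← card_cj r⁻¹ Q, h3, card_cj]
    obtain ⟨c, hc, e⟩ := syl_conj h2 hT
    exact ⟨c, hc, by rw [mem_normalizer_iff_cj, ← cj_cj, e]⟩
  have hBn : B ≤ normalizer ((B ⊓ centralizer (W : Set G) : Subgroup G) : Set G) := by
    intro b hb
    rw [mem_normalizer_iff_cj, cj_inf, cj_centralizer, cj_eq_of_mem_normalizer (le_normalizer hb),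
      cj_eq_of_mem_normalizer (hRW (hB.1 hb))]
  by_contra hcon
  have h2 : R ⊓ normalizer ((B ⊓ centralizer (W : Set G) : Subgroup G) : Set G) ≤ R₀ :=
    hmax _ (le_inf hB.1 hBn) (lt_of_le_of_ne inf_le_left fun e => hcon (e ▸ inf_le_right))
  refine hR₀.not_ge fun r hr => ?_
  obtain ⟨c, hc, hcr⟩ := hfr r hr
  have h3 : c * r ∈ R₀ := h2 ⟨mul_mem hc.1 hr, hcr⟩
  have h4 := mul_mem (inv_mem (h1 (mem_sup_left hc))) h3
  rwa [inv_mul_cancel_left] at h4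

/-- in a finite group: `n ∈ N`, `n² ∈ K` for all `n ∈ N`, `K` normalised by `N`, `K` contains a Sylow 2-subgroup of `N` :
`N ≤ K` -/
theorem le_of_sq [Finite G] {N K T : Subgroup G} (hT : Syl T N) (hTK : T ≤ K)
    (hn : ∀ n ∈ N, ∀ k ∈ K, k ∈ N → n * k * n⁻¹ ∈ K) (hsq : ∀ n ∈ N, n * n ∈ K) : N ≤ K := by
  intro n hn'
  -- `n = (n^{k})^u (n^{2^a})^v`
  obtain ⟨a, k, hk, e⟩ := Nat.exists_eq_two_pow_mul_odd (orderOf_pos n).ne'
  have hk1 : n ^ k ∈ K := by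
    -- a 2-element
    have h2 : IsPGroup 2 (zpowers (n ^ k)) := by
      rw [IsPGroup.iff_orderOf]
      rintro ⟨x, hx⟩
      obtain ⟨m, rfl⟩ := mem_zpowers_iff.1 hx
      have h3 : orderOf ((n ^ k) ^ m) ∣ 2 ^ a := by
        have h4 : ((n ^ k) ^ m) ^ (2 ^ a) = 1 := by
          rw [← zpow_natCast, ← zpow_mul, mul_comm, zpow_mul, zpow_natCast, ← pow_mul, mul_comm k, ← e,
            pow_orderOf_eq_one, one_zpow]
        exact orderOf_dvd_of_pow_eq_one h4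
      obtain ⟨b, -, hb⟩ := (Nat.dvd_prime_pow Nat.prime_two).1 h3
      exact ⟨b, by rw [← hb, ← Subgroup.orderOf_coe]⟩
    obtain ⟨T', hT', hle⟩ := exists_syl h2 (zpowers_le.2 (pow_mem hn' k))
    obtain ⟨x, hx, rfl⟩ := syl_conj hT hT'
    have h4 : n ^ k ∈ cj x T := hle (mem_zpowers _)
    rw [mem_cj] at h4
    have h5 := hn x hx _ (hTK h4) (hT.1 h4)
    have e2 : x * (x⁻¹ * n ^ k * x) * x⁻¹ = n ^ k := by group
    rwa [e2] at h5
  have hk2 : n ^ 2 ∈ K := by rw [pow_two]; exact hsq n hn'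
  have hgcd : IsCoprime (k : ℤ) ((2 : ℕ) : ℤ) :=
    Nat.isCoprime_iff_coprime.2 (Nat.Coprime.symm (Nat.coprime_two_left.2 hk))
  obtain ⟨s, t, hst⟩ := hgcd
  have e3 : n = (n ^ k) ^ s * (n ^ 2) ^ t := by
    rw [← zpow_natCast n k, ← zpow_natCast n 2, ← zpow_mul, ← zpow_mul, ← zpow_add, mul_comm (k : ℤ), mul_comm ((2 : ℕ) : ℤ)]
    rw [show s * (k : ℤ) + t * ((2 : ℕ) : ℤ) = 1 from hst, zpow_one]
  rw [e3]
  exact mul_mem (zpow_mem hk1 s) (zpow_mem hk2 t)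

namespace UIn

variable [Finite G] {S : Sylow 2 G} {P : Subgroup G} {ι : Type} [Finite ι] {B ZJ : Subgroup G}
  {L W Z C : ι → Subgroup G} {i j : ι} {Y : Subgroup G} (u : UIn S P B ZJ L W Z C i j Y)

/-- the elements of `Y` which fix `V_i` modulo `Z^j` -/
def G0 (Y Wi Zj : Subgroup G) (hc : Y ≤ centralizer (Zj : Set G)) : Subgroup G where
  carrier := {g | g ∈ Y ∧ ∀ v ∈ Wi, g * v * g⁻¹ * v⁻¹ ∈ Zj}
  one_mem' := ⟨one_mem _, fun v _ => by
    have e : 1 * v * 1⁻¹ * v⁻¹ = 1 := by group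
    rw [e]; exact one_mem _⟩
  mul_mem' := by
    rintro a b ⟨ha, ha'⟩ ⟨hb, hb'⟩
    refine ⟨mul_mem ha hb, fun v hv => ?_⟩
    have h1 := mem_centralizer_iff.1 (hc ha) _ (hb' v hv)
    have e : a * b * v * (a * b)⁻¹ * v⁻¹ = (a * (b * v * b⁻¹ * v⁻¹)) * a⁻¹ * (a * v * a⁻¹ * v⁻¹) := by group
    rw [e, ← h1, mul_inv_cancel_right]
    exact mul_mem (hb' v hv) (ha' v hv)
  inv_mem' := by
    rintro a ⟨ha, ha'⟩
    refine ⟨inv_mem ha, fun v hv => ?_⟩
    have h1 := mem_centralizer_iff.1 (hc (inv_mem ha)) _ (inv_mem (ha' v hv))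
    have e : a⁻¹ * v * a⁻¹⁻¹ * v⁻¹ = a⁻¹ * (a * v * a⁻¹ * v⁻¹)⁻¹ * a := by group
    rw [e, ← h1, inv_mul_cancel_right]
    exact inv_mem (ha' v hv)

include u

theorem cenZo : Y ≤ centralizer (Zo Z j : Set G) := by
  rw [le_centralizer_iff]
  exact iSup_le fun l => le_centralizer_iff.1 (u.cen l l.2)

theorem B_G0 : B ≤ G0 Y (W i) (Zo Z j) u.cenZo := fun b hb =>
  ⟨u.syl.1 hb, fun v hv => le_Zo_of u.ij ((u.bg.fr.blk i).com b hb v hv)⟩

theorem P_G0 : P ⊓ centralizer (C j : Set G) ≤ G0 Y (W i) (Zo Z j) u.cenZo := fun g hg =>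
  ⟨u.PY hg, fun v hv => by
    have h1 := mem_centralizer_iff.1 hg.2 v (u.bg.fr.WjC j i u.ij.symm hv)
    have e : g * v * g⁻¹ * v⁻¹ = 1 := by rw [← h1]; group
    rw [e]; exact one_mem _⟩

theorem P_norm : P ⊓ centralizer (C j : Set G) ≤ normalizer (W j : Set G) := fun _ hg =>
  mem_normalizer_iff_cj.2 (u.bg.fix hg.1 hg.2 j)

omit u in
/-- `|W k : Z k| = 2` -/
theorem ix2 (h : Bg S P B ZJ L W Z C 2) {k : ι} {a v : G} (ha : a ∈ W k) (ha' : a ∉ Z k) (hv : v ∈ W k)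
    (hv' : v ∉ Z k) : a * v⁻¹ ∈ Z k := by
  have hZ2 : Nat.card (Z k) = 2 := h.fr.cardZ k
  obtain ⟨z, hz, hz1⟩ : ∃ z ∈ Z k, z ≠ 1 := by
    by_contra hcon
    push Not at hcon
    exact h.Z_ne k ((eq_bot_iff_forall _).2 hcon)
  obtain ⟨b, hb, -, e⟩ := h.root k v hv hv' z hz
  have hbm : ¬ b * v = v * b := by
    intro e2
    apply hz1
    rw [← e, e2]; group
  have hba : b * a * b⁻¹ * a⁻¹ = z := by
    refine OM.UniPlus.eq_of_card_two hZ2 ((h.fr.blk k).com b hb a ha) hz (fun e2 => hbm ?_) hz1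
    have e3 : b * a = a * b := by
      have := congrArg (fun t => t * a * b) e2
      simpa [mul_assoc] using this
    exact (h.fr.blk k).free b hb a ha ha' e3 v hv
  by_contra hcon
  apply hbm
  refine (h.fr.blk k).free b hb (a * v⁻¹) (mul_mem ha (inv_mem hv)) hcon ?_ v hv
  have h1 : b * a * b⁻¹ = z * a := by rw [← hba]; group
  have h2 : b * v * b⁻¹ = z * v := by rw [← e]; group
  have h3 : b * (a * v⁻¹) * b⁻¹ = a * v⁻¹ := by
    have hzV := h.fr.ZV k hz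
    have haV := h.fr.WV k ha
    calc b * (a * v⁻¹) * b⁻¹ = (b * a * b⁻¹) * (b * v * b⁻¹)⁻¹ := by group
      _ = z * a * (z * v)⁻¹ := by rw [h1, h2]
      _ = z * a * v⁻¹ * z⁻¹ := by group
      _ = a * z * v⁻¹ * z⁻¹ := by rw [h.fr.Vc hzV haV]
      _ = a * (z * v⁻¹) * z⁻¹ := by group
      _ = a * (v⁻¹ * z) * z⁻¹ := by rw [h.fr.Vc hzV (inv_mem (h.fr.WV k hv))]
      _ = a * v⁻¹ := by group
  calc b * (a * v⁻¹) = (b * (a * v⁻¹) * b⁻¹) * b := by group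
    _ = a * v⁻¹ * b := by rw [h3]

theorem Zo_V : Zo Z j ≤ zl (S : Subgroup G) P := (Zo_le_ZJ u.bg j).trans u.bg.fr.ZJV

/-- `F = V_j Z^j` -/
theorem F_V : W j ⊔ Zo Z j ≤ zl (S : Subgroup G) P := sup_le (u.bg.fr.WV j) u.Zo_V

theorem conj_F {g f : G} (hg : g ∈ Y) (hgW : g ∈ normalizer (W j : Set G)) (hf : f ∈ W j ⊔ Zo Z j) :
    g * f * g⁻¹ ∈ W j ⊔ Zo Z j := by
  have h1 : W j ⊔ Zo Z j ≤ cj g⁻¹ (W j ⊔ Zo Z j) := by
    refine sup_le ?_ ?_
    · intro x hx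
      rw [mem_cj, inv_inv]
      exact mem_sup_left ((mem_normalizer_iff.1 hgW x).1 hx)
    · intro x hx
      rw [mem_cj, inv_inv]
      have h2 := mem_centralizer_iff.1 (u.cenZo hg) x hx
      have e : g * x * g⁻¹ = x := by rw [← h2]; group
      rw [e]
      exact mem_sup_right hx
  have h3 := h1 hf
  rwa [mem_cj, inv_inv] at h3

/-- the components of `v ^ r` -/
theorem dc {R : Subgroup G} (hRY : R ≤ Y) (hT0 : R ≤ normalizer ((B ⊓ centralizer (W j : Set G) : Subgroup G) : Set G))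
    {r v : G} (hr : r ∈ R) (hv : v ∈ W i) (hV : (∀ x ∈ B ⊓ centralizer (W j : Set G),
      x * (r * v * r⁻¹) * x⁻¹ * (r * v * r⁻¹)⁻¹ ∈ Z i) → r * v * r⁻¹ ∈ zl (S : Subgroup G) P) :
    ∃ a ∈ W i, ∃ b ∈ W j, ∃ z ∈ Zo Z j, r * v * r⁻¹ = a * b * z := by
  have hri := mem_centralizer_iff.1 (u.cen i u.ij (hRY hr))
  have h1 : ∀ x ∈ B ⊓ centralizer (W j : Set G), x * (r * v * r⁻¹) * x⁻¹ * (r * v * r⁻¹)⁻¹ ∈ Z i := by
    intro x hx
    have hx' : r⁻¹ * x * r ∈ B ⊓ centralizer (W j : Set G) := (mem_normalizer_iff''.1 (hT0 hr) x).1 hx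
    have h2 := (u.bg.fr.blk i).com _ hx'.1 v hv
    have h3 := hri _ h2
    have e : x * (r * v * r⁻¹) * x⁻¹ * (r * v * r⁻¹)⁻¹ =
        r * (r⁻¹ * x * r * v * (r⁻¹ * x * r)⁻¹ * v⁻¹) * r⁻¹ := by group
    rw [e, ← h3, mul_inv_cancel_right]
    exact h2
  have hxV := hV h1
  refine dcmp u.bg u.ij hxV fun l hli hlj => ?_
  obtain ⟨w, hw, c, hc, e⟩ := u.bg.fr.WC l _ hxV
  refine ⟨w, ?_, c, hc, e⟩
  by_contra hwZ
  obtain ⟨z, hz, hz1⟩ : ∃ z ∈ Z l, z ≠ 1 := by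
    by_contra hcon
    push Not at hcon
    exact u.bg.Z_ne l ((eq_bot_iff_forall _).2 hcon)
  obtain ⟨b, hb, hbc, eb⟩ := u.bg.root l w hw hwZ z hz
  have h2 := h1 b ⟨hb, centralizer_le (u.bg.fr.WjC l j hlj) hbc⟩
  have hbc' := mem_centralizer_iff.1 hbc c hc
  have e2 : b * (r * v * r⁻¹) * b⁻¹ * (r * v * r⁻¹)⁻¹ = z := by
    rw [e]
    calc b * (w * c) * b⁻¹ * (w * c)⁻¹ = b * w * (c * b⁻¹) * c⁻¹ * w⁻¹ := by group
      _ = b * w * (b⁻¹ * c) * c⁻¹ * w⁻¹ := by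
        have : c * b⁻¹ = b⁻¹ * c := by
          calc c * b⁻¹ = b⁻¹ * (b * c) * b⁻¹ := by group
            _ = b⁻¹ * (c * b) * b⁻¹ := by rw [hbc']
            _ = b⁻¹ * c := by group
        rw [this]
      _ = b * w * b⁻¹ * w⁻¹ := by group
      _ = z := eb
  rw [e2] at h2
  have h3 : z ∈ Z i ⊓ Z l := ⟨h2, hz⟩
  rw [u.bg.Z_disj (Ne.symm hli), mem_bot] at h3
  exact hz1 h3

/-- `[r, v] ∈ V_j Z^j` -/
theorem comm_F {R : Subgroup G} (hRY : R ≤ Y) (hRW : R ≤ normalizer (W j : Set G))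
    (hT0 : R ≤ normalizer ((B ⊓ centralizer (W j : Set G) : Subgroup G) : Set G))
    {r v : G} (hr : r ∈ R) (hv : v ∈ W i) (hV : (∀ x ∈ B ⊓ centralizer (W j : Set G),
      x * (r * v * r⁻¹) * x⁻¹ * (r * v * r⁻¹)⁻¹ ∈ Z i) → r * v * r⁻¹ ∈ zl (S : Subgroup G) P) :
    r * v * r⁻¹ * v⁻¹ ∈ W j ⊔ Zo Z j := by
  have hri := mem_centralizer_iff.1 (u.cen i u.ij (hRY hr))
  by_cases hvZ : v ∈ Z i
  · have e : r * v * r⁻¹ * v⁻¹ = 1 := by rw [← hri v hvZ]; group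
    rw [e]; exact one_mem _
  obtain ⟨a, ha, b, hb, z, hz, e⟩ := u.dc hRY hT0 hr hv hV
  have haZ : a ∉ Z i := by
    intro haZ
    -- `v = a b' z`
    have hb' : r⁻¹ * b * r ∈ W j := (mem_normalizer_iff''.1 (hRW hr) b).1 hb
    have hza := hri a haZ
    have hzz := mem_centralizer_iff.1 (u.cenZo (hRY hr)) z hz
    have e2 : v = a * (r⁻¹ * b * r) * z := by
      calc v = r⁻¹ * (r * v * r⁻¹) * r := by group
        _ = r⁻¹ * (a * b * z) * r := by rw [e]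
        _ = r⁻¹ * a * b * (z * r) := by group
        _ = r⁻¹ * a * b * (r * z) := by rw [hzz]
        _ = r⁻¹ * (a * r) * (r⁻¹ * b * r) * z := by group
        _ = r⁻¹ * (r * a) * (r⁻¹ * b * r) * z := by rw [hza]
        _ = a * (r⁻¹ * b * r) * z := by group
    obtain ⟨z0, hz0, hz01⟩ : ∃ z ∈ Z i, z ≠ 1 := by
      by_contra hcon
      push Not at hcon
      exact u.bg.Z_ne i ((eq_bot_iff_forall _).2 hcon)
    obtain ⟨t, ht, htc, et⟩ := u.bg.root i v hv hvZ z0 hz0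
    apply hz01
    have h1 : a * t = t * a := ((u.bg.fr.blk i).cZ t ht a haZ).symm
    have h2 : (r⁻¹ * b * r) * t = t * (r⁻¹ * b * r) := mem_centralizer_iff.1 htc _ (u.bg.fr.WjC i j u.ij hb')
    have h3 : z * t = t * z := (((u.bg.fr.mem_ZJ z).1 (Zo_le_ZJ u.bg j hz)).2 t ht).symm
    have h4 : t * v = v * t := by
      have c1 : Commute t a := h1.symm
      have c2 : Commute t (r⁻¹ * b * r) := h2.symm
      have c3 : Commute t z := h3.symm
      rw [e2]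
      exact (c1.mul_right c2).mul_right c3
    rw [← et, h4]; group
  have h1 := ix2 u.bg ha haZ hv hvZ
  have hbV := u.bg.fr.WV j hb
  have hzV := u.Zo_V hz
  have e3 : r * v * r⁻¹ * v⁻¹ = a * v⁻¹ * (b * z) := by
    have hvV := inv_mem (u.bg.fr.WV i hv)
    calc r * v * r⁻¹ * v⁻¹ = a * b * z * v⁻¹ := by rw [e]
      _ = a * ((b * z) * v⁻¹) := by group
      _ = a * (v⁻¹ * (b * z)) := by rw [u.bg.fr.Vc (mul_mem hbV hzV) hvV]
      _ = _ := by group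
  rw [e3]
  exact mul_mem (mem_sup_right (le_Zo_of u.ij h1)) (mul_mem (mem_sup_left hb) (mem_sup_right hz))

/-- a group `N` which centralises `F ≥ Z^j`, `[N, V_i] ≤ F`, fixes `V_i` mod `Z^j` if its Sylow 2-subgroups do -/
theorem le_G0 {N F T : Subgroup G} (hNY : N ≤ Y) (hNF : ∀ n ∈ N, ∀ f ∈ F, n * f = f * n)
    (hFV : F ≤ zl (S : Subgroup G) P) (hZF : Zo Z j ≤ F) (hD : ∀ n ∈ N, ∀ v ∈ W i, n * v * n⁻¹ * v⁻¹ ∈ F)
    (hT : Syl T N) (hTG : T ≤ G0 Y (W i) (Zo Z j) u.cenZo) : N ≤ G0 Y (W i) (Zo Z j) u.cenZo := by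
  refine le_of_sq hT hTG ?_ ?_
  · intro n hn k hk hkN
    refine ⟨mul_mem (mul_mem (hNY hn) hk.1) (inv_mem (hNY hn)), fun v hv => ?_⟩
    -- `f = [n⁻¹, v]`, `ζ = [k, v]`
    have hf := hD _ (inv_mem hn) v hv
    have hζ := hk.2 v hv
    set f := n⁻¹ * v * n⁻¹⁻¹ * v⁻¹ with hfe
    set ζ := k * v * k⁻¹ * v⁻¹ with hζe
    have h1 := hNF k hkN f hf
    have h2 := hNF n hn ζ (hZF hζ)
    have h3 : f * ζ = ζ * f := u.bg.fr.Vc (hFV hf) (u.Zo_V hζ)
    have e1 : n⁻¹ * v * n = f * v := by rw [hfe]; group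
    have e2 : k * v * k⁻¹ = ζ * v := by rw [hζe]; group
    have e3 : n * k * n⁻¹ * v * (n * k * n⁻¹)⁻¹ * v⁻¹ = ζ := by
      calc n * k * n⁻¹ * v * (n * k * n⁻¹)⁻¹ * v⁻¹ = n * (k * (n⁻¹ * v * n) * k⁻¹) * n⁻¹ * v⁻¹ := by group
        _ = n * (k * (f * v) * k⁻¹) * n⁻¹ * v⁻¹ := by rw [e1]
        _ = n * ((k * f) * v * k⁻¹) * n⁻¹ * v⁻¹ := by group
        _ = n * ((f * k) * v * k⁻¹) * n⁻¹ * v⁻¹ := by rw [h1]
        _ = n * (f * (k * v * k⁻¹)) * n⁻¹ * v⁻¹ := by group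
        _ = n * (f * (ζ * v)) * n⁻¹ * v⁻¹ := by rw [e2]
        _ = n * ((f * ζ) * v) * n⁻¹ * v⁻¹ := by group
        _ = n * ((ζ * f) * v) * n⁻¹ * v⁻¹ := by rw [h3]
        _ = (n * ζ) * (f * v) * n⁻¹ * v⁻¹ := by group
        _ = (ζ * n) * (f * v) * n⁻¹ * v⁻¹ := by rw [h2]
        _ = (ζ * n) * (n⁻¹ * v * n) * n⁻¹ * v⁻¹ := by rw [e1]
        _ = ζ := by group
    rw [e3]
    exact hζ
  · intro n hn
    refine ⟨mul_mem (hNY hn) (hNY hn), fun v hv => ?_⟩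
    have hf := hD n hn v hv
    obtain ⟨f, hfe⟩ : ∃ f, f = n * v * n⁻¹ * v⁻¹ := ⟨_, rfl⟩
    rw [← hfe] at hf
    have h1 := hNF n hn f hf
    have e1 : n * v * n⁻¹ = f * v := by rw [hfe]; group
    have e3 : n * n * v * (n * n)⁻¹ * v⁻¹ = f ^ 2 := by
      calc n * n * v * (n * n)⁻¹ * v⁻¹ = n * (n * v * n⁻¹) * n⁻¹ * v⁻¹ := by group
        _ = n * (f * v) * n⁻¹ * v⁻¹ := by rw [e1]
        _ = (n * f) * v * n⁻¹ * v⁻¹ := by group
        _ = (f * n) * v * n⁻¹ * v⁻¹ := by rw [h1]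
        _ = f * (n * v * n⁻¹) * v⁻¹ := by group
        _ = f * (f * v) * v⁻¹ := by rw [e1]
        _ = f ^ 2 := by rw [pow_two]; group
    rw [e3, u.bg.fr.Vsq (hFV hf)]
    exact one_mem _

/-- **(U)** -/
theorem uni {R : Subgroup G} (hmin : IsMinPar B R) (hRY : R ≤ Y) (hRW : R ≤ normalizer (W j : Set G))
    (hmv : ¬ R ≤ centralizer (Z j : Set G))
    (hV : ∀ r ∈ R, ∀ v ∈ W i, (∀ x ∈ B ⊓ centralizer (W j : Set G),
      x * (r * v * r⁻¹) * x⁻¹ * (r * v * r⁻¹)⁻¹ ∈ Z i) → r * v * r⁻¹ ∈ zl (S : Subgroup G) P) :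
    R ≤ G0 Y (W i) (Zo Z j) u.cenZo := by
  have hsylR : Syl B R := ⟨hmin.le, u.syl.2.1, fun Q hQ h2 hle => u.syl.2.2 Q (hQ.trans hRY) h2 hle⟩
  have hT0 := norm_T0 hsylR hmin hRW (u.bg.fr.blk j).ZV
    (fun b hb => mem_centralizer_iff.2 fun z hz => ((u.bg.fr.blk j).cZ b hb z hz).symm) hmv
  -- the group `G₁`
  set G₁ : Subgroup G := R ⊔ (P ⊓ centralizer (C j : Set G)) with hG₁
  have hG₁Y : G₁ ≤ Y := sup_le hRY u.PY
  have hG₁W : G₁ ≤ normalizer (W j : Set G) := sup_le hRW u.P_norm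
  have hBG : B ≤ G₁ := hmin.le.trans le_sup_left
  have hsylG : Syl B G₁ := ⟨hBG, u.syl.2.1, fun Q hQ h2 hle => u.syl.2.2 Q (hQ.trans hG₁Y) h2 hle⟩
  let GF : Subgroup G :=
    { carrier := {g | g ∈ Y ∧ g ∈ normalizer (W j : Set G) ∧ ∀ v ∈ W i, g * v * g⁻¹ * v⁻¹ ∈ W j ⊔ Zo Z j}
      one_mem' := ⟨one_mem _, one_mem _, fun v _ => by
        have e : 1 * v * 1⁻¹ * v⁻¹ = 1 := by group
        rw [e]; exact one_mem _⟩
      mul_mem' := by
        rintro a b ⟨ha, ha', ha2⟩ ⟨hb, hb', hb2⟩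
        refine ⟨mul_mem ha hb, mul_mem ha' hb', fun v hv => ?_⟩
        have e : a * b * v * (a * b)⁻¹ * v⁻¹ = (a * (b * v * b⁻¹ * v⁻¹) * a⁻¹) * (a * v * a⁻¹ * v⁻¹) := by group
        rw [e]
        exact mul_mem (u.conj_F ha ha' (hb2 v hv)) (ha2 v hv)
      inv_mem' := by
        rintro a ⟨ha, ha', ha2⟩
        refine ⟨inv_mem ha, inv_mem ha', fun v hv => ?_⟩
        have e : a⁻¹ * v * a⁻¹⁻¹ * v⁻¹ = a⁻¹ * (a * v * a⁻¹ * v⁻¹)⁻¹ * a⁻¹⁻¹ := by group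
        rw [e]
        exact u.conj_F (inv_mem ha) (inv_mem ha') (inv_mem (ha2 v hv)) }
  have hGF : G₁ ≤ GF := by
    refine sup_le (fun r hr => ⟨hRY hr, hRW hr, fun v hv => u.comm_F hRY hRW hT0 hr hv (hV r hr v hv)⟩) fun g hg =>
      ⟨u.PY hg, u.P_norm hg, fun v hv => mem_sup_right ((u.P_G0 hg).2 v hv)⟩
  set N : Subgroup G := G₁ ⊓ centralizer (W j : Set G) with hN
  have hNn : G₁ ≤ normalizer (N : Set G) := by
    intro r hr
    rw [mem_normalizer_iff_cj, hN, cj_inf, cj_centralizer, cj_eq_of_mem_normalizer (le_normalizer hr),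
      cj_eq_of_mem_normalizer (hG₁W hr)]
  have hT := syl_inf hsylG (inf_le_left : N ≤ G₁) fun r hr n hn => (mem_normalizer_iff.1 (hNn hr) n).1 hn
  -- `N` centralises `F`
  have hNF : ∀ n ∈ N, ∀ f ∈ W j ⊔ Zo Z j, n * f = f * n := by
    intro n hn f hf
    have h1 : W j ⊔ Zo Z j ≤ centralizer ({n} : Set G) := by
      refine sup_le (fun x hx => mem_centralizer_singleton_iff.2 ?_) fun x hx => mem_centralizer_singleton_iff.2 ?_
      · exact mem_centralizer_iff.1 hn.2 x hx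
      · exact mem_centralizer_iff.1 (u.cenZo (hG₁Y hn.1)) x hx
    exact (mem_centralizer_singleton_iff.1 (h1 hf)).symm
  have hNG : N ≤ G0 Y (W i) (Zo Z j) u.cenZo :=
    u.le_G0 (inf_le_left.trans hG₁Y) hNF u.F_V le_sup_right (fun n hn => (hGF hn.1).2.2) hT
      (inf_le_left.trans u.B_G0)
  -- the end
  intro r hr
  obtain ⟨z, hz, hz1⟩ : ∃ z ∈ Z j, z ≠ 1 := by
    by_contra hcon
    push Not at hcon
    exact u.bg.Z_ne j ((eq_bot_iff_forall _).2 hcon)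
  have hZ2 : Nat.card (Z j) = 2 := u.bg.fr.cardZ j
  have hzW := (u.bg.fr.blk j).ZV hz
  have hrz : r * z * r⁻¹ ∈ W j := (mem_normalizer_iff.1 (hRW hr) z).1 hzW
  obtain ⟨l, hl, hlc, z', hz', el⟩ := u.bg.tr j _ hrz fun e => hz1 (conj_eq_one_iff.1 e)
  have hz'1 : z' ≠ 1 := by
    rintro rfl
    rw [mul_one, mul_inv_cancel] at el
    exact hz1 (conj_eq_one_iff.1 el.symm)
  have hzz' := OM.UniPlus.eq_of_card_two hZ2 hz' hz hz'1 hz1
  subst hzz'
  have hlG : l ∈ G₁ := mem_sup_right ⟨hl, hlc⟩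
  have hrG : r ∈ G₁ := mem_sup_left hr
  have hg : l⁻¹ * r ∈ G₁ := mul_mem (inv_mem hlG) hrG
  have hgz : (l⁻¹ * r) * z' * (l⁻¹ * r)⁻¹ = z' := by
    calc (l⁻¹ * r) * z' * (l⁻¹ * r)⁻¹ = l⁻¹ * (r * z' * r⁻¹) * l := by group
      _ = l⁻¹ * (l * z' * l⁻¹) * l := by rw [el]
      _ = z' := by group
  obtain ⟨-, -, w, hw, -⟩ := (u.bg.fr.blk j).ne
  obtain ⟨w, hw, hwZ⟩ : ∃ w ∈ W j, w ∉ Z j := by
    obtain ⟨b, hb, w, hw, hne⟩ := (u.bg.fr.blk j).ne
    exact ⟨w, hw, fun hwZ => hne ((u.bg.fr.blk j).cZ b hb w hwZ)⟩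
  -- an element of `G₁` which centralises `z`, `w` is in `N`
  have hcz : ∀ n ∈ G₁, n * z' * n⁻¹ = z' → n * w * n⁻¹ = w → n ∈ N := by
    intro n hn h1 h2
    refine ⟨hn, mem_centralizer_iff.2 fun x hx => ?_⟩
    have hZc : ∀ y ∈ Z j, y * n = n * y := by
      intro y hy
      by_cases hy1 : y = 1
      · rw [hy1]; group
      · rw [OM.UniPlus.eq_of_card_two hZ2 hy hz' hy1 hz'1]
        exact (mul_inv_eq_iff_eq_mul.1 h1).symm
    by_cases hxZ : x ∈ Z j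
    · exact hZc x hxZ
    · have h3 := hZc _ (ix2 u.bg hx hxZ hw hwZ)
      have h4 : w * n = n * w := (mul_inv_eq_iff_eq_mul.1 h2).symm
      calc x * n = x * w⁻¹ * (w * n) := by group
        _ = x * w⁻¹ * (n * w) := by rw [h4]
        _ = (x * w⁻¹ * n) * w := by group
        _ = (n * (x * w⁻¹)) * w := by rw [h3]
        _ = n * x := by group
  set g := l⁻¹ * r with hge
  have hgw : g * w * g⁻¹ ∈ W j := (mem_normalizer_iff.1 (hG₁W hg) w).1 hw
  have hgwZ : g * w * g⁻¹ ∉ Z j := by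
    intro hc
    by_cases h1 : g * w * g⁻¹ = 1
    · exact hwZ (by rw [conj_eq_one_iff.1 h1]; exact one_mem _)
    · have h2 := OM.UniPlus.eq_of_card_two hZ2 hc hz' h1 hz'1
      apply hwZ
      have e : w = z' := by
        have h3 : g * w * g⁻¹ = g * z' * g⁻¹ := by rw [h2, hgz]
        exact mul_left_cancel (mul_right_cancel h3)
      rw [e]; exact hz'
  have hgc := ix2 u.bg hgw hgwZ hw hwZ
  by_cases h1 : g * w * g⁻¹ * w⁻¹ = 1
  · have h2 : g ∈ N := hcz g hg hgz (mul_inv_eq_one.1 h1)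
    have h3 := mul_mem (u.P_G0 ⟨hl, hlc⟩) (hNG h2)
    rw [hge, mul_inv_cancel_left] at h3
    exact h3
  · have h2 := OM.UniPlus.eq_of_card_two hZ2 hgc hz' h1 hz'1
    obtain ⟨b, hb, -, eb⟩ := u.bg.root j w hw hwZ z' hz'
    have hbG : b ∈ G₁ := hBG hb
    have h3 : b⁻¹ * g ∈ N := by
      refine hcz _ (mul_mem (inv_mem hbG) hg) ?_ ?_
      · have h4 : b * z' = z' * b := (u.bg.fr.blk j).cZ b hb z' hz'
        calc b⁻¹ * g * z' * (b⁻¹ * g)⁻¹ = b⁻¹ * (g * z' * g⁻¹) * b := by group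
          _ = b⁻¹ * (z' * b) := by rw [hgz]; group
          _ = b⁻¹ * (b * z') := by rw [h4]
          _ = z' := by group
      · have e1 : g * w * g⁻¹ = z' * w := by rw [← h2]; group
        have e2 : b * w * b⁻¹ = z' * w := by rw [← eb]; group
        calc b⁻¹ * g * w * (b⁻¹ * g)⁻¹ = b⁻¹ * (g * w * g⁻¹) * b := by group
          _ = b⁻¹ * (b * w * b⁻¹) * b := by rw [e1, e2]
          _ = w := by group
    have h4 := mul_mem (mul_mem (u.P_G0 ⟨hl, hlc⟩) (u.B_G0 hb)) (hNG h3)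
    have e : l * b * (b⁻¹ * g) = r := by rw [hge]; group
    rwa [e] at h4

/-- `N_Y(B)` centralises `Z_J` -/
theorem nB_ZJ {g : G} (hg : g ∈ Y) (hgB : g ∈ normalizer (B : Set G)) {z : G} (hz : z ∈ ZJ) : g * z = z * g := by
  have hZo := fun x hx => mem_centralizer_iff.1 (u.cenZo hg) x hx
  -- `g` normalises `Z j`
  have hj : cj g (Z j) = Z j := by
    obtain ⟨m, hm, -⟩ := u.bg.nrm g hgB |>.2 j
    by_cases hmj : m = j
    · rw [hm, hmj]
    · exfalso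
      -- `Z m` is centralised by `g`
      have h1 : cj g (Z m) = Z m := by
        refine mem_normalizer_iff_cj.1 (centralizer_le_normalizer _ (u.cen m hmj hg))
      rw [← hm] at h1
      have h2 : cj g (Z j) = Z j := by
        have h3 := congrArg (cj g⁻¹) h1
        rw [cj_inv_cj, cj_inv_cj] at h3
        exact h3
      exact hmj (u.bg.Z_inj (hm.symm.trans h2))
  have hZj : ∀ y ∈ Z j, g * y = y * g := by
    intro y hy
    have hZ2 : Nat.card (Z j) = 2 := u.bg.fr.cardZ j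
    by_cases hy1 : y = 1
    · rw [hy1]; group
    · have h1 : g * y * g⁻¹ ∈ Z j := hj ▸ (⟨y, hy, rfl⟩ : g * y * g⁻¹ ∈ cj g (Z j))
      have h2 := OM.UniPlus.eq_of_card_two hZ2 h1 hy (fun e => hy1 (conj_eq_one_iff.1 e)) hy1
      exact mul_inv_eq_iff_eq_mul.1 h2
  obtain ⟨w, hw, c, hc, hcJ, e⟩ := u.bg.fr.split_ZJ j hz
  have h1 := hZj w hw
  have h2 := hZo c (le_Zo u.bg j ⟨hcJ, hc⟩)
  rw [e]
  calc g * (w * c) = (g * w) * c := by group
    _ = w * (g * c) := by rw [h1]; group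
    _ = w * (c * g) := by rw [h2]
    _ = _ := by group

/-- **`N_Y(B)` fixes `V_i` mod `Z^j`** -/
theorem nB : Y ⊓ normalizer (B : Set G) ≤ G0 Y (W i) (Zo Z j) u.cenZo := by
  have hsyl : Syl B (Y ⊓ normalizer (B : Set G)) :=
    ⟨le_inf u.syl.1 le_normalizer, u.syl.2.1, fun Q hQ h2 hle => u.syl.2.2 Q (hQ.trans inf_le_left) h2 hle⟩
  refine u.le_G0 inf_le_left (F := ZJ) (fun n hn f hf => u.nB_ZJ hn.1 hn.2 hf) u.bg.fr.ZJV (Zo_le_ZJ u.bg j) ?_
    hsyl u.B_G0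
  intro g hg v hv
  by_cases hvZ : v ∈ Z i
  · have h1 := mem_centralizer_iff.1 (u.cen i u.ij hg.1) v hvZ
    have e : g * v * g⁻¹ * v⁻¹ = 1 := by rw [← h1]; group
    rw [e]; exact one_mem _
  obtain ⟨m, hm, hW⟩ := u.bg.nrm g hg.2 |>.2 i
  have hmi : m = i := by
    have h1 : cj g (Z i) = Z i := mem_normalizer_iff_cj.1 (centralizer_le_normalizer _ (u.cen i u.ij hg.1))
    exact u.bg.Z_inj (hm.symm.trans h1)
  subst hmi
  have h1 : g * v * g⁻¹ ∈ W m ⊔ ZJ := hW ⟨v, hv, rfl⟩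
  have h2 : ∃ a ∈ W m, ∃ z ∈ ZJ, g * v * g⁻¹ = a * z := by
    have h3 : W m ≤ normalizer (ZJ : Set G) :=
      le_trans (fun x hx => mem_centralizer_iff.2 fun y hy => u.bg.fr.Vc (u.bg.fr.ZJV hy) (u.bg.fr.WV m hx))
        (centralizer_le_normalizer _)
    rw [← SetLike.mem_coe, Subgroup.coe_mul_of_left_le_normalizer_right _ _ h3] at h1
    obtain ⟨a, ha, z, hz, e⟩ := Set.mem_mul.1 h1
    exact ⟨a, ha, z, hz, e.symm⟩
  obtain ⟨a, ha, z, hz, e⟩ := h2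
  have haZ : a ∉ Z m := by
    intro haZ
    apply hvZ
    refine (u.bg.fr.blk m).toMd.mem_Z_iff.2 ⟨hv, fun b hb => ?_⟩
    have h3 : g * v * g⁻¹ ∈ ZJ := by rw [e]; exact mul_mem (u.bg.fr.Z_le m haZ) hz
    have h4 := u.nB_ZJ hg.1 hg.2 h3
    have e5 : v = g * v * g⁻¹ := by
      calc v = g⁻¹ * (g * v * g⁻¹ * g) := by group
        _ = g⁻¹ * (g * (g * v * g⁻¹)) := by rw [h4]
        _ = g * v * g⁻¹ := inv_mul_cancel_left _ _
    rw [e5]
    exact ((u.bg.fr.mem_ZJ _).1 h3).2 b hb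
  have h3 := ix2 u.bg ha haZ hv hvZ
  have e3 : g * v * g⁻¹ * v⁻¹ = a * v⁻¹ * z := by
    calc g * v * g⁻¹ * v⁻¹ = a * (z * v⁻¹) := by rw [e]; group
      _ = a * (v⁻¹ * z) := by rw [u.bg.fr.Vc (u.bg.fr.ZJV hz) (inv_mem (u.bg.fr.WV m hv))]
      _ = _ := by group
  rw [e3]
  exact mul_mem (u.bg.fr.Z_le m h3) hz

end UIn

end Cfsg.Agent.Omega.EK3.UFix

end

end
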